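/-
Bounds on the order of a permutation group along a chain of point stabilisers.
-/
import Mathlib.GroupTheory.GroupAction.Quotient
import Mathlib.GroupTheory.Index
import Cfsg.Prelude.Def_Classical

set_option autoImplicit false

namespace Cfsg.Agent.Spor.Co0Sec

variable {X : Type*} [Finite X]

/-- candidates for the images of the base points -/
def Up : List (X × List X) → Subgroup (Equiv.Perm X) → Prop
  | [], K => K = ⊥
  | l :: L, K => (∀ g ∈ K, g l.1 ∈ l.2) ∧ Up L (K ⊓ MulAction.stabilizer (Equiv.Perm X) l.1)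

/-- elements realising images of the base points -/
def Low : List (X × List (Equiv.Perm X)) → Subgroup (Equiv.Perm X) → Prop
  | [], _ => True
  | l :: L, K => (∀ g ∈ l.2, g ∈ K) ∧ (l.2.map fun g => g l.1).Nodup ∧
      Low L (K ⊓ MulAction.stabilizer (Equiv.Perm X) l.1)

theorem card_step (K : Subgroup (Equiv.Perm X)) (b : X) :
    Nat.card K = Set.ncard ((fun g : Equiv.Perm X => g b) '' (K : Set (Equiv.Perm X))) *
      Nat.card ↥(K ⊓ MulAction.stabilizer (Equiv.Perm X) b) := by
  have h := Subgroup.index_mul_card (MulAction.stabilizer ↥K b)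
  rw [MulAction.index_stabilizer] at h
  rw [← h]
  congr 1
  · congr 1
    ext x
    constructor
    · rintro ⟨g, rfl⟩; exact ⟨(g : Equiv.Perm X), g.2, rfl⟩
    · rintro ⟨g, hg, rfl⟩; exact ⟨⟨g, hg⟩, rfl⟩
  · exact Nat.card_congr
      { toFun := fun g => ⟨((g : ↥K) : Equiv.Perm X), (g : ↥K).2, g.2⟩
        invFun := fun g => ⟨⟨(g : Equiv.Perm X), g.2.1⟩, g.2.2⟩
        left_inv := fun g => rfl
        right_inv := fun g => rfl }

theorem Up.card_le : ∀ (L : List (X × List X)) (K : Subgroup (Equiv.Perm X)), Up L K →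
    Nat.card K ≤ (L.map fun l => l.2.length).prod
  | [], K, h => by
    have h : K = ⊥ := h
    simp [h]
  | l :: L, K, h => by
    classical
    obtain ⟨h1, h2⟩ := h
    rw [card_step K l.1, List.map_cons, List.prod_cons]
    refine Nat.mul_le_mul ?_ (Up.card_le L _ h2)
    calc _ ≤ (↑l.2.toFinset : Set X).ncard := Set.ncard_le_ncard
          (by rintro _ ⟨g, hg, rfl⟩; simpa using h1 g hg) (Finset.finite_toSet _)
      _ ≤ _ := by rw [Set.ncard_coe_finset]; exact List.toFinset_card_le _

theorem Low.le_card : ∀ (L : List (X × List (Equiv.Perm X))) (K : Subgroup (Equiv.Perm X)), Low L K →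
    (L.map fun l => l.2.length).prod ≤ Nat.card K
  | [], K, _ => by simp [Nat.card_pos.ne', Nat.one_le_iff_ne_zero]
  | l :: L, K, h => by
    classical
    obtain ⟨h1, h2, h3⟩ := h
    rw [card_step K l.1, List.map_cons, List.prod_cons]
    refine Nat.mul_le_mul ?_ (Low.le_card L _ h3)
    calc l.2.length = (l.2.map fun g => g l.1).toFinset.card := by
          rw [List.toFinset_card_of_nodup h2, List.length_map]
      _ ≤ _ := by
        rw [← Set.ncard_coe_finset]
        refine Set.ncard_le_ncard (fun x hx => ?_) (Set.toFinite _)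
        simp only [Finset.mem_coe, List.mem_toFinset, List.mem_map] at hx
        obtain ⟨g, hg, rfl⟩ := hx
        exact ⟨g, h1 g hg, rfl⟩

/-- a matrix group as permutations of the space -/
def vecPerm {ι : Type} [Fintype ι] [DecidableEq ι] :
    Matrix.GeneralLinearGroup ι (ZMod 2) →* Equiv.Perm (ι → ZMod 2) :=
  MonoidHom.mk'
    (fun g =>
      { toFun := Matrix.mulVec (g : Matrix ι ι (ZMod 2))
        invFun := Matrix.mulVec ((g⁻¹ : Matrix.GeneralLinearGroup ι (ZMod 2)) : Matrix ι ι (ZMod 2))
        left_inv := fun v => by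
          rw [Matrix.mulVec_mulVec, ← Units.val_mul, inv_mul_cancel, Units.val_one, Matrix.one_mulVec]
        right_inv := fun v => by
          rw [Matrix.mulVec_mulVec, ← Units.val_mul, mul_inv_cancel, Units.val_one, Matrix.one_mulVec] })
    fun g h => Equiv.ext fun v => by
      show Matrix.mulVec _ v = Matrix.mulVec _ (Matrix.mulVec _ v)
      rw [Matrix.mulVec_mulVec, Units.val_mul]

theorem vecPerm_apply {ι : Type} [Fintype ι] [DecidableEq ι] (g : Matrix.GeneralLinearGroup ι (ZMod 2))
    (v : ι → ZMod 2) : vecPerm g v = Matrix.mulVec (g : Matrix ι ι (ZMod 2)) v := rfl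

theorem vecPerm_injective {ι : Type} [Fintype ι] [DecidableEq ι] :
    Function.Injective (vecPerm (ι := ι)) := fun _ _ h =>
  Units.ext (Matrix.toLin'.injective (LinearMap.ext fun v => by
    simp only [Matrix.toLin'_apply, ← vecPerm_apply, h]))

end Cfsg.Agent.Spor.Co0Sec
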