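/-
Coordinates on a two-group with a central involution carrying all squares and commutators, and the action
of a normalising subgroup on them.
-/
import Cfsg.Prelude.Def_Classical
import Mathlib.GroupTheory.Index
import Mathlib.GroupTheory.QuotientGroup.Basic

set_option autoImplicit false

namespace Cfsg.Agent.Spor.Co0Sec

open Cfsg

variable {H : Type*} [Group H] {ι : Type} [Fintype ι] [DecidableEq ι]

/-- the power of an involution by a residue -/
def zp (z : H) (a : ZMod 2) : H := if a = 0 then 1 else z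

/-- the polar of a form -/
def polF (Qf : (ι → ZMod 2) → ZMod 2) (u v : ι → ZMod 2) : ZMod 2 := Qf (u + v) + Qf u + Qf v

/-- unit vectors -/
def eu (i : ι) : ι → ZMod 2 := Pi.single i 1

/-- the hypotheses on the two-group -/
structure Sx (H : Type*) [Group H] (ι : Type) [Fintype ι] [DecidableEq ι] where
  P : Subgroup H
  z : H
  q : ι → H
  δ : ι → ι
  Qf : (ι → ZMod 2) → ZMod 2
  z_ne : z ≠ 1
  z_sq : z * z = 1
  z_mem : z ∈ P
  z_cen : ∀ h : H, z * h = h * z
  q_mem : ∀ i, q i ∈ P
  sq_cases : ∀ x ∈ P, x * x = 1 ∨ x * x = z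
  comm_cases : ∀ x ∈ P, ∀ y ∈ P, x * y = y * x ∨ x * y = z * (y * x)
  finite : Finite P
  card_le : Nat.card P ≤ 2 ^ (Fintype.card ι + 1)
  q_sq : ∀ i, q i * q i = zp z (Qf (eu i))
  q_comm : ∀ i j, q i * q j = zp z (polF Qf (eu i) (eu j)) * (q j * q i)
  pol_dual : ∀ i j, polF Qf (eu i) (eu (δ j)) = if i = j then 1 else 0
  pol_add : ∀ u v w, polF Qf (u + v) w = polF Qf u w + polF Qf v w
  Qf_zero : Qf 0 = 0

theorem two_cases : ∀ a : ZMod 2, a = 0 ∨ a = 1 := by decide

namespace Sx

variable (D : Sx H ι)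

theorem zp_add (a b : ZMod 2) : zp D.z (a + b) = zp D.z a * zp D.z b := by
  rcases two_cases a with rfl | rfl <;> rcases two_cases b with rfl | rfl <;>
    simp [zp, D.z_sq, show (1 : ZMod 2) + 1 = 0 from rfl]

theorem zp_inj {a b : ZMod 2} {u : H} (h : zp D.z a * u = zp D.z b * u) : a = b := by
  have e := mul_right_cancel h
  rcases two_cases a with rfl | rfl <;> rcases two_cases b with rfl | rfl <;>
    simp [zp, D.z_ne, Ne.symm D.z_ne] at e ⊢

theorem zp_mem (a : ZMod 2) : zp D.z a ∈ D.P := by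
  rw [zp]; split_ifs
  exacts [one_mem _, D.z_mem]

theorem zp_cen (a : ZMod 2) (h : H) : zp D.z a * h = h * zp D.z a := by
  rw [zp]; split_ifs
  exacts [by rw [one_mul, mul_one], D.z_cen h]

open Classical in
/-- the commutator as a residue -/
noncomputable def b (x y : H) : ZMod 2 := if x * y = y * x then 0 else 1

theorem b_spec {x y : H} (hx : x ∈ D.P) (hy : y ∈ D.P) : x * y = zp D.z (b x y) * (y * x) := by
  unfold b
  split_ifs with h
  · simp [zp, h]
  · simp only [zp, one_ne_zero, if_false]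
    exact (D.comm_cases x hx y hy).resolve_left h

theorem b_eq {x y : H} (hx : x ∈ D.P) (hy : y ∈ D.P) {a : ZMod 2} (h : x * y = zp D.z a * (y * x)) :
    b x y = a := D.zp_inj ((D.b_spec hx hy).symm.trans h)

theorem b_mul {x y w : H} (hx : x ∈ D.P) (hy : y ∈ D.P) (hw : w ∈ D.P) :
    b (x * y) w = b x w + b y w := by
  refine D.b_eq (mul_mem hx hy) hw ?_
  calc x * y * w = x * (zp D.z (b y w) * (w * y)) := by rw [← D.b_spec hy hw, mul_assoc]
    _ = zp D.z (b y w) * (x * w * y) := by
        rw [← mul_assoc, ← D.zp_cen]; group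
    _ = zp D.z (b y w) * (zp D.z (b x w) * (w * x) * y) := by rw [← D.b_spec hx hw]
    _ = zp D.z (b x w + b y w) * (w * (x * y)) := by rw [add_comm, D.zp_add]; group

theorem b_symm (x y : H) : b x y = b y x := by
  unfold b
  by_cases h : x * y = y * x
  · rw [if_pos h, if_pos h.symm]
  · rw [if_neg h, if_neg (Ne.symm h)]

theorem b_cen {x y : H} (h : x * y = y * x) : b x y = 0 := by rw [b, if_pos h]

/-- the coordinates -/
noncomputable def coord (x : H) : ι → ZMod 2 := fun i => b x (D.q (D.δ i))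

theorem coord_mul {x y : H} (hx : x ∈ D.P) (hy : y ∈ D.P) : D.coord (x * y) = D.coord x + D.coord y :=
  funext fun _ => D.b_mul hx hy (D.q_mem _)

theorem coord_q (i : ι) : D.coord (D.q i) = eu i := by
  funext j
  rw [coord, D.b_eq (D.q_mem i) (D.q_mem _) (D.q_comm i _), D.pol_dual, eu, Pi.single_apply]
  simp [eq_comm]

theorem coord_one : D.coord 1 = 0 := funext fun i => b_cen (by rw [one_mul, mul_one])

theorem coord_z : D.coord D.z = 0 := funext fun i => b_cen (D.z_cen _)

theorem coord_inv {x : H} (hx : x ∈ D.P) : D.coord x⁻¹ = D.coord x := by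
  have h := D.coord_mul hx (inv_mem hx)
  rw [mul_inv_cancel, D.coord_one] at h
  exact (eq_neg_of_add_eq_zero_right h.symm).trans (funext fun i => CharTwo.neg_eq _)

/-- the coordinates as a homomorphism -/
noncomputable def coordHom : ↥D.P →* Multiplicative (ι → ZMod 2) :=
  MonoidHom.mk' (fun x => Multiplicative.ofAdd (D.coord (x : H))) fun x y => by
    rw [← ofAdd_add, ← D.coord_mul x.2 y.2]; rfl

theorem coord_surj (v : ι → ZMod 2) : ∃ x ∈ Subgroup.closure (Set.range D.q), D.coord x = v := by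
  let K : AddSubgroup (ι → ZMod 2) :=
    { carrier := {v | ∃ x ∈ Subgroup.closure (Set.range D.q), D.coord x = v}
      zero_mem' := ⟨1, one_mem _, D.coord_one⟩
      add_mem' := by
        rintro a c ⟨x, hx, rfl⟩ ⟨y, hy, rfl⟩
        have hle : Subgroup.closure (Set.range D.q) ≤ D.P :=
          (Subgroup.closure_le _).2 (by rintro _ ⟨i, rfl⟩; exact D.q_mem i)
        exact ⟨x * y, mul_mem hx hy, D.coord_mul (hle hx) (hle hy)⟩
      neg_mem' := by
        rintro a ⟨x, hx, rfl⟩
        exact ⟨x, hx, funext fun i => (CharTwo.neg_eq _).symm⟩ }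
  have h1 : ∀ i a, (Pi.single i a : ι → ZMod 2) ∈ K := fun i a => by
    rcases two_cases a with rfl | rfl
    · rw [Pi.single_zero]; exact zero_mem _
    · exact ⟨D.q i, Subgroup.subset_closure ⟨i, rfl⟩, D.coord_q i⟩
  have : v ∈ K := by
    rw [← Finset.univ_sum_single v]
    exact sum_mem fun i _ => h1 i _
  exact this

theorem closure_q_le : Subgroup.closure (Set.range D.q) ≤ D.P :=
  (Subgroup.closure_le _).2 (by rintro _ ⟨i, rfl⟩; exact D.q_mem i)

theorem coord_ker {x : H} (hx : x ∈ D.P) (h : D.coord x = 0) : x = 1 ∨ x = D.z := by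
  haveI := D.finite
  have hsurj : Function.Surjective D.coordHom := fun v => by
    obtain ⟨y, hy, e⟩ := D.coord_surj v.toAdd
    exact ⟨⟨y, D.closure_q_le hy⟩, congrArg Multiplicative.ofAdd e⟩
  have hc : D.coordHom.ker.index * Nat.card D.coordHom.ker = Nat.card D.P := Subgroup.index_mul_card _
  rw [Subgroup.index_ker, MonoidHom.range_eq_top.2 hsurj, Subgroup.card_top, Nat.card_congr Multiplicative.toAdd,
    Nat.card_fun, Nat.card_zmod, Nat.card_eq_fintype_card] at hc
  have hle : Nat.card D.coordHom.ker ≤ 2 := by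
    have h2 := hc ▸ D.card_le
    rw [pow_succ] at h2
    exact Nat.le_of_mul_le_mul_left h2 (pow_pos (by norm_num) _)
  by_contra hne
  push Not at hne
  have m1 : (⟨x, hx⟩ : D.P) ∈ D.coordHom.ker := MonoidHom.mem_ker.2 (congrArg Multiplicative.ofAdd h)
  have m2 : (⟨D.z, D.z_mem⟩ : D.P) ∈ D.coordHom.ker := MonoidHom.mem_ker.2 (congrArg Multiplicative.ofAdd D.coord_z)
  let f : Fin 3 → ↥D.coordHom.ker := ![1, ⟨_, m1⟩, ⟨_, m2⟩]
  have hf : Function.Injective f := by
    intro i j e
    have e' := congrArg (fun k : ↥D.coordHom.ker => ((k : ↥D.P) : H)) e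
    fin_cases i <;> fin_cases j <;>
      simp [f, hne.1, hne.2, Ne.symm hne.1, Ne.symm hne.2, D.z_ne, Ne.symm D.z_ne] at e' ⊢
  have := Nat.card_le_card_of_injective f hf
  rw [Nat.card_fin] at this
  omega

theorem gen_induction {p : H → Prop} (hq : ∀ i, p (D.q i)) (hz : p D.z) (h1 : p 1)
    (hm : ∀ x y, x ∈ D.P → y ∈ D.P → p x → p y → p (x * y)) (hi : ∀ x, x ∈ D.P → p x → p x⁻¹)
    {x : H} (hx : x ∈ D.P) : p x := by
  obtain ⟨y, hy, e⟩ := D.coord_surj (D.coord x)
  have hyP := D.closure_q_le hy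
  have h0 : D.coord (y⁻¹ * x) = 0 := by
    rw [D.coord_mul (inv_mem hyP) hx, D.coord_inv hyP, e]
    funext i; exact CharTwo.add_self_eq_zero _
  have hall : ∀ w, w ∈ Subgroup.closure (Set.range D.q) → p w := by
    intro w hw
    induction hw using Subgroup.closure_induction with
    | mem a ha => obtain ⟨i, rfl⟩ := ha; exact hq i
    | one => exact h1
    | mul a c ha hc iha ihc => exact hm a c (D.closure_q_le ha) (D.closure_q_le hc) iha ihc
    | inv a ha iha => exact hi a (D.closure_q_le ha) iha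
  have hpy : p y := hall y hy
  rcases D.coord_ker (mul_mem (inv_mem hyP) hx) h0 with e' | e'
  · rwa [← inv_mul_eq_one.1 e']
  · rw [inv_mul_eq_iff_eq_mul] at e'
    rw [e']; exact hm _ _ hyP D.z_mem hpy hz

theorem pol_symm (u v : ι → ZMod 2) : polF D.Qf u v = polF D.Qf v u := by
  unfold polF; rw [add_comm u v]; ring

theorem pol_zero (v : ι → ZMod 2) : polF D.Qf 0 v = 0 := by
  simp [polF, D.Qf_zero, CharTwo.add_self_eq_zero]

theorem b_pol {x y : H} (hx : x ∈ D.P) (hy : y ∈ D.P) : b x y = polF D.Qf (D.coord x) (D.coord y) := by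
  refine D.gen_induction (p := fun x => b x y = polF D.Qf (D.coord x) (D.coord y)) (fun i => ?_) ?_ ?_ ?_ ?_ hx
  · rw [b_symm, pol_symm]
    refine D.gen_induction (p := fun y => b y (D.q i) = polF D.Qf (D.coord y) (D.coord (D.q i))) (fun j => ?_)
      ?_ ?_ (fun u w hu hw iu iw => ?_) (fun u hu iu => ?_) hy
    · rw [D.coord_q, D.coord_q]; exact D.b_eq (D.q_mem _) (D.q_mem _) (D.q_comm j i)
    · rw [b_cen (D.z_cen _), D.coord_z, D.pol_zero]
    · rw [b_cen (by rw [one_mul, mul_one]), D.coord_one, D.pol_zero]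
    · rw [D.b_mul hu hw (D.q_mem i), D.coord_mul hu hw, D.pol_add, iu, iw]
    · have h := D.b_mul hu (inv_mem hu) (D.q_mem i)
      rw [mul_inv_cancel, b_cen (by rw [one_mul, mul_one]), iu] at h
      rw [D.coord_inv hu]
      exact (CharTwo.add_eq_zero.1 h.symm).symm
  · rw [b_cen (D.z_cen _), D.coord_z, D.pol_zero]
  · rw [b_cen (by rw [one_mul, mul_one]), D.coord_one, D.pol_zero]
  · intro u w hu hw iu iw
    rw [D.b_mul hu hw hy, D.coord_mul hu hw, D.pol_add, iu, iw]
  · intro u hu iu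
    have h := D.b_mul hu (inv_mem hu) hy
    rw [mul_inv_cancel, b_cen (by rw [one_mul, mul_one]), iu] at h
    rw [D.coord_inv hu]
    exact (CharTwo.add_eq_zero.1 h.symm).symm

theorem sq_coord {x : H} (hx : x ∈ D.P) : x * x = zp D.z (D.Qf (D.coord x)) := by
  refine D.gen_induction (p := fun x => x * x = zp D.z (D.Qf (D.coord x))) (fun i => ?_) ?_ ?_
    (fun u w hu hw iu iw => ?_) (fun u hu iu => ?_) hx
  · rw [D.coord_q, D.q_sq]
  · rw [D.z_sq, D.coord_z, D.Qf_zero, zp, if_pos rfl]
  · rw [one_mul, D.coord_one, D.Qf_zero, zp, if_pos rfl]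
  · have e : D.Qf (D.coord u + D.coord w) = D.Qf (D.coord u) + (b w u + D.Qf (D.coord w)) := by
      rw [b_symm, D.b_pol hu hw, polF]
      generalize D.Qf (D.coord u + D.coord w) = a
      generalize D.Qf (D.coord u) = c
      generalize D.Qf (D.coord w) = d
      revert a c d; decide
    rw [D.coord_mul hu hw, e, D.zp_add, D.zp_add, ← iu, ← iw]
    calc u * w * (u * w) = u * (w * u) * w := by group
      _ = u * (zp D.z (b w u) * (u * w)) * w := by rw [← D.b_spec hw hu]
      _ = u * (u * zp D.z (b w u) * w) * w := by rw [← mul_assoc (zp D.z _), D.zp_cen]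
      _ = u * u * (zp D.z (b w u) * (w * w)) := by group
  · rw [D.coord_inv hu, ← iu, ← mul_inv_rev]
    refine inv_eq_of_mul_eq_one_right ?_
    rcases D.sq_cases u hu with e | e <;> rw [e] <;> simp [D.z_sq]

theorem cent_P {x : H} (hx : x ∈ D.P) (h : ∀ i, x * D.q i = D.q i * x) : x = 1 ∨ x = D.z :=
  D.coord_ker hx (funext fun _ => b_cen (h _))

/-! ### the action of a normalising element -/

/-- conjugation preserving the group -/
def Norms (c : H) : Prop := ∀ x ∈ D.P, c * x * c⁻¹ ∈ D.P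

theorem b_conj (c x y : H) : b (c * x * c⁻¹) (c * y * c⁻¹) = b x y := by
  unfold b
  have : c * x * c⁻¹ * (c * y * c⁻¹) = c * y * c⁻¹ * (c * x * c⁻¹) ↔ x * y = y * x := by
    constructor
    · intro h
      have := congrArg (fun t => c⁻¹ * t * c) h
      group at this ⊢
      exact this
    · intro h
      rw [show c * x * c⁻¹ * (c * y * c⁻¹) = c * (x * y) * c⁻¹ by group, h]; group
  by_cases h : x * y = y * x
  · rw [if_pos h, if_pos (this.2 h)]
  · rw [if_neg h, if_neg fun e => h (this.1 e)]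

/-- the matrix of the conjugation -/
noncomputable def conjMat (c : H) : Matrix ι ι (ZMod 2) :=
  Matrix.of fun i j => D.coord (c * D.q j * c⁻¹) i

theorem conjMat_spec {c x : H} (hc : D.Norms c) (hx : x ∈ D.P) :
    Matrix.mulVec (D.conjMat c) (D.coord x) = D.coord (c * x * c⁻¹) := by
  refine D.gen_induction (p := fun x => Matrix.mulVec (D.conjMat c) (D.coord x) = D.coord (c * x * c⁻¹))
    (fun i => ?_) ?_ ?_ (fun u w hu hw iu iw => ?_) (fun u hu iu => ?_) hx
  · rw [D.coord_q, eu, Matrix.mulVec_single_one]; rfl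
  · rw [D.coord_z, Matrix.mulVec_zero, ← D.z_cen, mul_inv_cancel_right, D.coord_z]
  · rw [D.coord_one, Matrix.mulVec_zero, mul_one, mul_inv_cancel, D.coord_one]
  · rw [D.coord_mul hu hw, Matrix.mulVec_add, iu, iw, ← D.coord_mul (hc u hu) (hc w hw)]
    congr 1; group
  · rw [D.coord_inv hu, iu, ← D.coord_inv (hc u hu)]
    congr 1; group

theorem conjMat_form {c : H} (hc : D.Norms c) (v : ι → ZMod 2) :
    D.Qf (Matrix.mulVec (D.conjMat c) v) = D.Qf v := by
  obtain ⟨x, hx, rfl⟩ := D.coord_surj v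
  have hxP := D.closure_q_le hx
  rw [D.conjMat_spec hc hxP]
  refine D.zp_inj (u := 1) ?_
  rw [← D.sq_coord (hc x hxP), ← D.sq_coord hxP, mul_one, mul_one,
    show c * x * c⁻¹ * (c * x * c⁻¹) = c * (x * x) * c⁻¹ by group]
  rcases D.sq_cases x hxP with e | e <;> rw [e]
  · group
  · rw [← D.z_cen, mul_inv_cancel_right]

theorem conjMat_one : D.conjMat 1 = 1 := by
  ext i j
  rw [conjMat, Matrix.of_apply, one_mul, inv_one, mul_one, D.coord_q, eu, Matrix.one_apply, Pi.single_apply]

theorem conjMat_mul {c d : H} (hc : D.Norms c) (hd : D.Norms d) :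
    D.conjMat (c * d) = D.conjMat c * D.conjMat d := by
  refine Matrix.toLin'.injective (LinearMap.ext fun v => ?_)
  obtain ⟨x, hx, rfl⟩ := D.coord_surj v
  have hxP := D.closure_q_le hx
  have hcd : D.Norms (c * d) := fun y hy => by
    rw [show c * d * y * (c * d)⁻¹ = c * (d * y * d⁻¹) * c⁻¹ by group]; exact hc _ (hd y hy)
  simp only [Matrix.toLin'_apply, ← Matrix.mulVec_mulVec, D.conjMat_spec hd hxP, D.conjMat_spec hcd hxP,
    D.conjMat_spec hc (hd x hxP)]
  congr 1; group

/-- the action as a homomorphism into the isometry group -/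
noncomputable def rho (N : Subgroup H) (hN : ∀ c ∈ N, D.Norms c) :
    ↥N →* ↥(isometryGroup (ZMod 2) D.Qf) :=
  MonoidHom.mk' (fun c => ⟨⟨D.conjMat (c : H), D.conjMat ((c : H)⁻¹),
      by rw [← D.conjMat_mul (hN _ c.2) (hN _ (inv_mem c.2)), mul_inv_cancel, D.conjMat_one],
      by rw [← D.conjMat_mul (hN _ (inv_mem c.2)) (hN _ c.2), inv_mul_cancel, D.conjMat_one]⟩,
      fun v _ => D.conjMat_form (hN _ c.2) v⟩)
    fun c d => Subtype.ext (Units.ext (D.conjMat_mul (hN _ c.2) (hN _ d.2)))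

theorem rho_apply (N : Subgroup H) (hN : ∀ c ∈ N, D.Norms c) (c : ↥N) :
    ((D.rho N hN c).1 : Matrix ι ι (ZMod 2)) = D.conjMat (c : H) := rfl

theorem conjMat_mem {c : H} (hc : c ∈ D.P) : D.conjMat c = 1 := by
  ext i j
  rw [conjMat, Matrix.of_apply, D.coord_mul (mul_mem hc (D.q_mem j)) (inv_mem hc),
    D.coord_mul hc (D.q_mem j), D.coord_inv hc, D.coord_q, eu, Matrix.one_apply]
  simp only [Pi.add_apply, Pi.single_apply]
  generalize D.coord c i = a
  split_ifs <;> revert a <;> decide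

theorem conjMat_comm {c : H} (hc : ∀ i, c * D.q i = D.q i * c) : D.conjMat c = 1 := by
  ext i j
  rw [conjMat, Matrix.of_apply, hc, mul_inv_cancel_right, D.coord_q, eu, Matrix.one_apply, Pi.single_apply]

end Sx

end Cfsg.Agent.Spor.Co0Sec
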