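/-
Fast evaluation of products of integer matrices on the points: rows packed into single integers.
-/
import Cfsg.Agent.Lib.Spor.GolayBasic
import Mathlib.Tactic.Linarith
import Mathlib.Algebra.BigOperators.Ring.Finset

set_option autoImplicit false
set_option maxRecDepth 100000

namespace Cfsg.Agent.Spor.Co0Sec

open Cfsg Cfsg.Agent.Spor

/-- an integer matrix on the points, by rows -/
abbrev IMat : Type := List (List ℤ)

/-- entries -/
def ent (M : IMat) (p q : GolayPt) : ℤ := (M.getD (idx p) []).getD (idx q) 0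

/-- a row with one entry -/
def rowAt (j : ℕ) (v : ℤ) : List ℤ := List.replicate j 0 ++ v :: List.replicate (23 - j) 0

theorem rowAt_getD {j : ℕ} (hj : j < 24) (v : ℤ) (k : ℕ) : (rowAt j v).getD k 0 = if k = j then v else 0 := by
  unfold rowAt
  rcases lt_trichotomy k j with h | h | h
  · rw [List.getD_append _ _ _ _ (by simpa using h), List.getD_eq_getElem _ _ (by simpa using h)]
    simp [Nat.ne_of_lt h]
  · subst h; rw [List.getD_append_right _ _ _ _ (by simp)]; simp
  · rw [List.getD_append_right _ _ _ _ (by simp; omega), List.length_replicate, if_neg (Nat.ne_of_gt h),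
      show k - j = (k - j - 1) + 1 by omega, List.getD_cons_succ]
    by_cases hk : k - j - 1 < (List.replicate (23 - j) (0 : ℤ)).length
    · rw [List.getD_eq_getElem _ _ hk]; simp
    · rw [List.getD_eq_default _ _ (by omega)]

/-- inner product of lists -/
def dotL : List ℤ → List ℤ → ℤ
  | a :: as, b :: bs => a * b + dotL as bs
  | _, _ => 0

/-- a row as one integer -/
def packL : List ℤ → ℤ
  | [] => 0
  | a :: l => a + 1048576 * packL l

/-- shape and size check -/
def wfM (M : IMat) : Bool :=
  M.length == 24 && M.all fun r => r.length == 24 && r.all fun a => Nat.ble a.natAbs 64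

/-- packed rows of a product -/
def rowsDot (M N : IMat) : List ℤ := M.map fun r => dotL r (N.map packL)

/-- equality of two products -/
def prodEq (M N P Q : IMat) : Bool :=
  (wfM M && wfM N && wfM P && wfM Q) && decide (rowsDot M N = rowsDot P Q)

/-- inequality of two products -/
def prodNe (M N P Q : IMat) : Bool :=
  (wfM M && wfM N && wfM P && wfM Q) && decide (rowsDot M N ≠ rowsDot P Q)

theorem sum_idx {β : Type*} [AddCommMonoid β] (f : ℕ → β) :
    ∑ q : GolayPt, f (idx q) = ∑ k ∈ Finset.range 24, f k :=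
  Finset.sum_nbij' idx pt (fun q _ => Finset.mem_range.2 (idx_lt q)) (fun k _ => Finset.mem_univ _)
    (fun q _ => pt_idx q) (fun k hk => idx_pt k (Finset.mem_range.1 hk)) fun q _ => rfl

theorem dotL_eq : ∀ (n : ℕ) (a b : List ℤ), a.length = n → b.length = n →
    dotL a b = ∑ k ∈ Finset.range n, a.getD k 0 * b.getD k 0
  | 0, a, b, ha, hb => by
    rw [List.length_eq_zero_iff.1 ha]; simp [dotL]
  | n + 1, a :: as, b :: bs, ha, hb => by
    simp only [List.length_cons, add_left_inj] at ha hb
    rw [Finset.sum_range_succ', dotL, dotL_eq n as bs ha hb]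
    simp [add_comm]

theorem packL_eq : ∀ (n : ℕ) (a : List ℤ), a.length = n →
    packL a = ∑ k ∈ Finset.range n, a.getD k 0 * 1048576 ^ k
  | 0, a, ha => by rw [List.length_eq_zero_iff.1 ha]; simp [packL]
  | n + 1, a :: as, ha => by
    simp only [List.length_cons, add_left_inj] at ha
    rw [Finset.sum_range_succ', packL, packL_eq n as ha, Finset.mul_sum]
    simp only [List.getD_cons_succ, List.getD_cons_zero, pow_zero, mul_one]
    rw [add_comm]
    congr 1
    exact Finset.sum_congr rfl fun k _ => by ring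

theorem pack_inj : ∀ (n : ℕ) (c : ℕ → ℤ), (∀ k, k < n → -524288 < c k ∧ c k < 524288) →
    ∑ k ∈ Finset.range n, c k * 1048576 ^ k = 0 → ∀ k, k < n → c k = 0
  | 0, _, _, _, k, hk => by omega
  | n + 1, c, hb, h, k, hk => by
    have e : ∑ j ∈ Finset.range n, c (j + 1) * 1048576 ^ (j + 1) =
        1048576 * ∑ j ∈ Finset.range n, c (j + 1) * 1048576 ^ j := by
      rw [Finset.mul_sum]
      exact Finset.sum_congr rfl fun j _ => by ring
    rw [Finset.sum_range_succ', e, pow_zero, mul_one] at h
    have h0 := hb 0 (by omega)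
    have hc0 : c 0 = 0 := by omega
    rcases k with _ | k
    · exact hc0
    · exact pack_inj n (fun j => c (j + 1)) (fun j hj => hb (j + 1) (by omega)) (by omega) k (by omega)

theorem wfM_spec {M : IMat} (h : wfM M = true) :
    M.length = 24 ∧ ∀ i, i < 24 → (M.getD i []).length = 24 ∧
      ∀ j, -64 ≤ (M.getD i []).getD j 0 ∧ (M.getD i []).getD j 0 ≤ 64 := by
  simp only [wfM, Bool.and_eq_true, beq_iff_eq, List.all_eq_true, Nat.ble_eq] at h
  refine ⟨h.1, fun i hi => ?_⟩
  have hm : M.getD i [] ∈ M := by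
    rw [List.getD_eq_getElem _ _ (h.1.symm ▸ hi)]; exact List.getElem_mem _
  refine ⟨(h.2 _ hm).1, fun j => ?_⟩
  by_cases hj : j < (M.getD i []).length
  · rw [List.getD_eq_getElem _ _ hj]
    have := (h.2 _ hm).2 _ (List.getElem_mem hj)
    omega
  · rw [List.getD_eq_default _ _ (by omega)]; omega

theorem rowsDot_iff {M N P Q : IMat} (hM : wfM M = true) (hN : wfM N = true) (hP : wfM P = true)
    (hQ : wfM Q = true) : rowsDot M N = rowsDot P Q ↔
      ∀ p r : GolayPt, ∑ q, ent M p q * ent N q r = ∑ q, ent P p q * ent Q q r := by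
  obtain ⟨hMl, hMr⟩ := wfM_spec hM
  obtain ⟨hNl, hNr⟩ := wfM_spec hN
  obtain ⟨hPl, hPr⟩ := wfM_spec hP
  obtain ⟨hQl, hQr⟩ := wfM_spec hQ
  have key : ∀ (A B : IMat), A.length = 24 → B.length = 24 → (∀ i, i < 24 → (A.getD i []).length = 24) →
      (∀ i, i < 24 → (B.getD i []).length = 24) → ∀ i, i < 24 → (rowsDot A B).getD i 0 =
        ∑ r ∈ Finset.range 24, (∑ k ∈ Finset.range 24, (A.getD i []).getD k 0 * (B.getD k []).getD r 0) *
          1048576 ^ r := by
    intro A B hA hB hAr hBr i hi
    have e1 : (rowsDot A B).getD i 0 = dotL (A.getD i []) (B.map packL) := by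
      simp only [rowsDot]
      rw [List.getD_eq_getElem _ _ (by simp [hA, hi]), List.getElem_map, List.getD_eq_getElem _ _ (hA.symm ▸ hi)]
    rw [e1, dotL_eq 24 _ _ (hAr i hi) (by simp [hB])]
    have e2 : ∀ k ∈ Finset.range 24, (A.getD i []).getD k 0 * (B.map packL).getD k 0 =
        ∑ r ∈ Finset.range 24, (A.getD i []).getD k 0 * (B.getD k []).getD r 0 * 1048576 ^ r := by
      intro k hk
      have hk' := Finset.mem_range.1 hk
      have e3 : (B.map packL).getD k 0 = packL (B.getD k []) := by
        rw [List.getD_eq_getElem _ _ (by simp [hB, hk']), List.getElem_map,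
          List.getD_eq_getElem _ _ (hB.symm ▸ hk')]
      rw [e3, packL_eq 24 _ (hBr k hk'), Finset.mul_sum]
      exact Finset.sum_congr rfl fun r _ => by ring
    rw [Finset.sum_congr rfl e2, Finset.sum_comm]
    exact Finset.sum_congr rfl fun r _ => (Finset.sum_mul _ _ _).symm
  have kMN := key M N hMl hNl (fun i hi => (hMr i hi).1) fun i hi => (hNr i hi).1
  have kPQ := key P Q hPl hQl (fun i hi => (hPr i hi).1) fun i hi => (hQr i hi).1
  constructor
  · intro e p r
    have h1 := (kMN (idx p) (idx_lt p)).symm.trans (e ▸ kPQ (idx p) (idx_lt p))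
    rw [← sub_eq_zero, ← Finset.sum_sub_distrib] at h1
    simp only [← sub_mul] at h1
    have hb : ∀ (A B : IMat), (∀ j, -64 ≤ (A.getD (idx p) []).getD j 0 ∧ (A.getD (idx p) []).getD j 0 ≤ 64) →
        (∀ i, i < 24 → ∀ j, -64 ≤ (B.getD i []).getD j 0 ∧ (B.getD i []).getD j 0 ≤ 64) → ∀ t,
        -98304 ≤ ∑ k ∈ Finset.range 24, (A.getD (idx p) []).getD k 0 * (B.getD k []).getD t 0 ∧
          ∑ k ∈ Finset.range 24, (A.getD (idx p) []).getD k 0 * (B.getD k []).getD t 0 ≤ 98304 := by
      intro A B ha hb t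
      have hk : ∀ k ∈ Finset.range 24, -4096 ≤ (A.getD (idx p) []).getD k 0 * (B.getD k []).getD t 0 ∧
          (A.getD (idx p) []).getD k 0 * (B.getD k []).getD t 0 ≤ 4096 := by
        intro k hk
        obtain ⟨a1, a2⟩ := ha k
        obtain ⟨b1, b2⟩ := hb k (Finset.mem_range.1 hk) t
        constructor <;> nlinarith
      constructor
      · have := Finset.card_nsmul_le_sum (Finset.range 24) _ (-4096 : ℤ) fun k h => (hk k h).1
        simpa using this
      · have := Finset.sum_le_card_nsmul (Finset.range 24) _ (4096 : ℤ) fun k h => (hk k h).2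
        simpa using this
    have h2 := pack_inj 24 _ (fun t _ => by
      have a := hb M N (hMr _ (idx_lt p)).2 (fun i hi => (hNr i hi).2) t
      have b := hb P Q (hPr _ (idx_lt p)).2 (fun i hi => (hQr i hi).2) t
      constructor <;> omega) h1 (idx r) (idx_lt r)
    rw [show (∑ q, ent M p q * ent N q r) = _ from
        sum_idx (fun k => (M.getD (idx p) []).getD k 0 * (N.getD k []).getD (idx r) 0),
      show (∑ q, ent P p q * ent Q q r) = _ from
        sum_idx (fun k => (P.getD (idx p) []).getD k 0 * (Q.getD k []).getD (idx r) 0)]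
    exact sub_eq_zero.1 h2
  · intro e
    refine List.ext_getElem (by simp [rowsDot, hMl, hPl]) fun i h1 h2 => ?_
    have hi : i < 24 := by simpa [rowsDot, hMl] using h1
    rw [← List.getD_eq_getElem _ 0 h1, ← List.getD_eq_getElem _ 0 h2, kMN i hi, kPQ i hi]
    refine Finset.sum_congr rfl fun t ht => ?_
    congr 1
    have ht' := Finset.mem_range.1 ht
    have e' := e (pt i) (pt t)
    simp only [ent, idx_pt i hi, idx_pt t ht'] at e'
    rw [sum_idx (fun k => (M.getD i []).getD k 0 * (N.getD k []).getD t 0),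
      sum_idx (fun k => (P.getD i []).getD k 0 * (Q.getD k []).getD t 0)] at e'
    exact e'

theorem prodEq_spec {M N P Q : IMat} (h : prodEq M N P Q = true) :
    ∀ p r : GolayPt, ∑ q, ent M p q * ent N q r = ∑ q, ent P p q * ent Q q r := by
  simp only [prodEq, Bool.and_eq_true, decide_eq_true_eq] at h
  obtain ⟨⟨⟨⟨h1, h2⟩, h3⟩, h4⟩, h5⟩ := h
  exact (rowsDot_iff h1 h2 h3 h4).1 h5

theorem prodNe_spec {M N P Q : IMat} (h : prodNe M N P Q = true) :
    ¬ ∀ p r : GolayPt, ∑ q, ent M p q * ent N q r = ∑ q, ent P p q * ent Q q r := by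
  simp only [prodNe, Bool.and_eq_true, decide_eq_true_eq] at h
  obtain ⟨⟨⟨⟨h1, h2⟩, h3⟩, h4⟩, h5⟩ := h
  exact fun e => h5 ((rowsDot_iff h1 h2 h3 h4).2 e)

end Cfsg.Agent.Spor.Co0Sec
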