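/-
Elements of the automorphism group of the Leech lattice given by integer matrices (eight times the isometry).
-/
import Cfsg.Agent.Lib.Spor.Co1Invol.Kernel
import Cfsg.Agent.Lib.Spor.Co0Sec.Fast

set_option autoImplicit false
set_option maxRecDepth 100000

namespace Cfsg.Agent.Spor.Co0Sec

open Cfsg Cfsg.Agent.Spor Cfsg.Agent.Spor.Co1Invol
open scoped Pointwise

local notation "Zv" => GolayPt → ℤ

/-- the linear map -/
def lin (M : IMat) (x : Zv) : Zv := fun p => ∑ q, ent M p q * x q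

theorem lin_add (M : IMat) (x y : Zv) : lin M (x + y) = lin M x + lin M y := by
  funext p; simp [lin, mul_add, Finset.sum_add_distrib]

theorem lin_neg (M : IMat) (x : Zv) : lin M (-x) = -lin M x := by
  funext p; simp [lin, Finset.sum_neg_distrib]

theorem lin_zero (M : IMat) : lin M 0 = 0 := by funext p; simp [lin]

theorem lin_smul (M : IMat) (c : ℤ) (x : Zv) : lin M (c • x) = c • lin M x := by
  funext p; simp only [lin, Pi.smul_apply, smul_eq_mul, Finset.mul_sum]
  exact Finset.sum_congr rfl fun q _ => by ring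

theorem lin_lin (M N : IMat) (x : Zv) :
    lin M (lin N x) = fun p => ∑ r, (∑ q, ent M p q * ent N q r) * x r := by
  funext p
  simp only [lin, Finset.mul_sum, Finset.sum_mul]
  rw [Finset.sum_comm]
  exact Finset.sum_congr rfl fun r _ => Finset.sum_congr rfl fun q _ => by ring

/-- the matrix represents the element -/
def El (g : ↥Co0) (M : IMat) : Prop := ∀ x ∈ leechLattice, lin M x = (8 : ℤ) • act g x

theorem smul_cancel {x y : Zv} {c : ℤ} (hc : c ≠ 0) (h : c • x = c • y) : x = y :=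
  funext fun p => mul_left_cancel₀ hc (congrFun h p)

theorem El.eq {g h : ↥Co0} {M : IMat} (hg : El g M) (hh : El h M) : g = h :=
  act_ext fun x hx => smul_cancel (c := 8) (by norm_num) ((hg x hx).symm.trans (hh x hx))

theorem El.lin_comp {g h : ↥Co0} {M N : IMat} (hg : El g M) (hh : El h N) {x : Zv} (hx : x ∈ leechLattice) :
    lin M (lin N x) = (64 : ℤ) • act (g * h) x := by
  rw [hh x hx, lin_smul, hg _ (act_mem h hx), act_mul g h hx, smul_smul]
  norm_num

theorem El.prod {g h k l : ↥Co0} {M N P Q : IMat} (hg : El g M) (hh : El h N) (hk : El k P) (hl : El l Q)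
    (hc : prodEq M N P Q = true) : g * h = k * l := by
  have e := prodEq_spec hc
  refine act_ext fun x hx => smul_cancel (c := 64) (by norm_num) ?_
  rw [← hg.lin_comp hh hx, ← hk.lin_comp hl hx, lin_lin, lin_lin]
  funext p
  exact Finset.sum_congr rfl fun r _ => by rw [e]

theorem El.prod_ne {g h k l : ↥Co0} {M N P Q : IMat} (hg : El g M) (hh : El h N) (hk : El k P) (hl : El l Q)
    (hc : prodNe M N P Q = true) : g * h ≠ k * l := fun e => by
  refine prodNe_spec hc fun p r => ?_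
  have h1 := hg.lin_comp hh (e8 r).2
  rw [e, ← hk.lin_comp hl (e8 r).2, lin_lin, lin_lin] at h1
  have h2 := congrFun h1 p
  simp [e8, Pi.single_apply] at h2
  exact h2

theorem El.conj {g h : ↥Co0} {M N C : IMat} (hg : El g M) (hh : El h N) (hc : prodEq M N C M = true) :
    El (g * h * g⁻¹) C := by
  have e := prodEq_spec hc
  intro x hx
  have hy : act g⁻¹ x ∈ leechLattice := act_mem _ hx
  have h1 := hg.lin_comp hh hy
  have h2 : lin M (lin N (act g⁻¹ x)) = lin C (lin M (act g⁻¹ x)) := by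
    rw [lin_lin, lin_lin]; funext p; exact Finset.sum_congr rfl fun r _ => by rw [e]
  rw [h2, hg _ hy, lin_smul, ← act_mul g g⁻¹ hx, mul_inv_cancel, act_one hx, ← act_mul (g * h) g⁻¹ hx] at h1
  refine smul_cancel (c := 8) (by norm_num) ?_
  rw [h1, smul_smul]
  norm_num

/-- the transpose -/
def trM (M : IMat) : IMat :=
  (List.range 24).map fun i => M.map fun r => r.getD i 0

theorem ent_trM {M : IMat} (h : wfM M = true) : ∀ p q : GolayPt, ent (trM M) p q = ent M q p := by
  intro p q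
  have hl := (wfM_spec h).1
  simp [ent, trM, List.getD_eq_getElem, idx_lt, hl]

/-- the identity -/
def idM : IMat :=
  [[8, 0, 0, 0, 0, 0, 0, 0, 0, 0, 0, 0, 0, 0, 0, 0, 0, 0, 0, 0, 0, 0, 0, 0],
   [0, 8, 0, 0, 0, 0, 0, 0, 0, 0, 0, 0, 0, 0, 0, 0, 0, 0, 0, 0, 0, 0, 0, 0],
   [0, 0, 8, 0, 0, 0, 0, 0, 0, 0, 0, 0, 0, 0, 0, 0, 0, 0, 0, 0, 0, 0, 0, 0],
   [0, 0, 0, 8, 0, 0, 0, 0, 0, 0, 0, 0, 0, 0, 0, 0, 0, 0, 0, 0, 0, 0, 0, 0],
   [0, 0, 0, 0, 8, 0, 0, 0, 0, 0, 0, 0, 0, 0, 0, 0, 0, 0, 0, 0, 0, 0, 0, 0],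
   [0, 0, 0, 0, 0, 8, 0, 0, 0, 0, 0, 0, 0, 0, 0, 0, 0, 0, 0, 0, 0, 0, 0, 0],
   [0, 0, 0, 0, 0, 0, 8, 0, 0, 0, 0, 0, 0, 0, 0, 0, 0, 0, 0, 0, 0, 0, 0, 0],
   [0, 0, 0, 0, 0, 0, 0, 8, 0, 0, 0, 0, 0, 0, 0, 0, 0, 0, 0, 0, 0, 0, 0, 0],
   [0, 0, 0, 0, 0, 0, 0, 0, 8, 0, 0, 0, 0, 0, 0, 0, 0, 0, 0, 0, 0, 0, 0, 0],
   [0, 0, 0, 0, 0, 0, 0, 0, 0, 8, 0, 0, 0, 0, 0, 0, 0, 0, 0, 0, 0, 0, 0, 0],
   [0, 0, 0, 0, 0, 0, 0, 0, 0, 0, 8, 0, 0, 0, 0, 0, 0, 0, 0, 0, 0, 0, 0, 0],
   [0, 0, 0, 0, 0, 0, 0, 0, 0, 0, 0, 8, 0, 0, 0, 0, 0, 0, 0, 0, 0, 0, 0, 0],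
   [0, 0, 0, 0, 0, 0, 0, 0, 0, 0, 0, 0, 8, 0, 0, 0, 0, 0, 0, 0, 0, 0, 0, 0],
   [0, 0, 0, 0, 0, 0, 0, 0, 0, 0, 0, 0, 0, 8, 0, 0, 0, 0, 0, 0, 0, 0, 0, 0],
   [0, 0, 0, 0, 0, 0, 0, 0, 0, 0, 0, 0, 0, 0, 8, 0, 0, 0, 0, 0, 0, 0, 0, 0],
   [0, 0, 0, 0, 0, 0, 0, 0, 0, 0, 0, 0, 0, 0, 0, 8, 0, 0, 0, 0, 0, 0, 0, 0],
   [0, 0, 0, 0, 0, 0, 0, 0, 0, 0, 0, 0, 0, 0, 0, 0, 8, 0, 0, 0, 0, 0, 0, 0],
   [0, 0, 0, 0, 0, 0, 0, 0, 0, 0, 0, 0, 0, 0, 0, 0, 0, 8, 0, 0, 0, 0, 0, 0],
   [0, 0, 0, 0, 0, 0, 0, 0, 0, 0, 0, 0, 0, 0, 0, 0, 0, 0, 8, 0, 0, 0, 0, 0],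
   [0, 0, 0, 0, 0, 0, 0, 0, 0, 0, 0, 0, 0, 0, 0, 0, 0, 0, 0, 8, 0, 0, 0, 0],
   [0, 0, 0, 0, 0, 0, 0, 0, 0, 0, 0, 0, 0, 0, 0, 0, 0, 0, 0, 0, 8, 0, 0, 0],
   [0, 0, 0, 0, 0, 0, 0, 0, 0, 0, 0, 0, 0, 0, 0, 0, 0, 0, 0, 0, 0, 8, 0, 0],
   [0, 0, 0, 0, 0, 0, 0, 0, 0, 0, 0, 0, 0, 0, 0, 0, 0, 0, 0, 0, 0, 0, 8, 0],
   [0, 0, 0, 0, 0, 0, 0, 0, 0, 0, 0, 0, 0, 0, 0, 0, 0, 0, 0, 0, 0, 0, 0, 8]]

theorem ent_idM : ∀ p q : GolayPt, ent idM p q = if p = q then 8 else 0 := by
  intro p q
  have e : idM = (List.range 24).map fun i => rowAt i 8 := by decide +kernel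
  rw [e, ent, show ((List.range 24).map fun i => rowAt i (8 : ℤ)).getD (idx p) [] = rowAt (idx p) 8 by
    simp [List.getD_eq_getElem, idx_lt], rowAt_getD (idx_lt p)]
  simp [idx_injective.eq_iff, eq_comm]

/-- orthogonality check -/
def orthOK (M : IMat) : Bool :=
  prodEq (trM M) M idM idM && prodEq M (trM M) idM idM

theorem orth_spec {M : IMat} (h : orthOK M = true) (p r : GolayPt) :
    (∑ q, ent M q p * ent M q r = if p = r then 64 else 0) ∧
      (∑ q, ent M p q * ent M r q = if p = r then 64 else 0) := by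
  simp only [orthOK, Bool.and_eq_true] at h
  have hw : wfM M = true := by
    have h2 := h.2
    simp only [prodEq, Bool.and_eq_true] at h2
    exact h2.1.1.1.1
  have hI : ∑ q, ent idM p q * ent idM q r = if p = r then (64 : ℤ) else 0 := by
    simp only [ent_idM, ite_mul, zero_mul, Finset.sum_ite_eq, Finset.mem_univ, if_true]
    split_ifs <;> simp
  have e1 := prodEq_spec h.1 p r
  have e2 := prodEq_spec h.2 p r
  simp only [ent_trM hw] at e1 e2
  exact ⟨e1.trans hI, e2.trans hI⟩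

/-- the list of values -/
def vecL (x : Zv) : List ℤ := (List.range 24).map fun k => x (pt k)

/-- the function of a list of values -/
def ofL (l : List ℤ) : Zv := fun p => l.getD (idx p) 0

/-- the image as a list -/
def imgL (M : IMat) (l : List ℤ) : List ℤ := M.map fun r => dotL r l

/-- image check -/
def imgOK (M : IMat) (y : Zv) : Bool :=
  ((imgL M (vecL y)).all fun a => a % 8 == 0) && leechCheck (ofL ((imgL M (vecL y)).map fun a => a / 8))

theorem img_spec {M : IMat} (hw : wfM M = true) {y : Zv} (h : imgOK M y = true) :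
    ∃ z ∈ leechLattice, lin M y = (8 : ℤ) • z := by
  obtain ⟨hl, hr⟩ := wfM_spec hw
  simp only [imgOK, Bool.and_eq_true, List.all_eq_true, beq_iff_eq] at h
  refine ⟨_, leechCheck_mem h.2, funext fun p => ?_⟩
  have e : lin M y p = dotL (M.getD (idx p) []) (vecL y) := by
    rw [dotL_eq 24 _ _ (hr _ (idx_lt p)).1 (by simp [vecL]), lin]
    rw [← sum_idx (fun k => (M.getD (idx p) []).getD k 0 * (vecL y).getD k 0)]
    refine Finset.sum_congr rfl fun q _ => ?_
    congr 1
    simp [vecL, List.getD_eq_getElem, idx_lt, pt_idx]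
  have hp : idx p < (imgL M (vecL y)).length := by simp [imgL, hl, idx_lt]
  have e2 : (imgL M (vecL y)).getD (idx p) 0 = lin M y p := by
    rw [e, List.getD_eq_getElem _ _ hp]
    simp [imgL, List.getD_eq_getElem, hl, idx_lt]
  have h8 := h.1 _ (List.getElem_mem hp)
  rw [← List.getD_eq_getElem _ 0 hp, e2] at h8
  simp only [Pi.smul_apply, smul_eq_mul, ofL]
  rw [List.getD_eq_getElem _ _ (by simp [imgL, hl, idx_lt]), List.getElem_map, ← List.getD_eq_getElem _ 0 hp, e2]
  omega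

/-- the check on the generators of the lattice -/
def latOK (M : IMat) : Bool :=
  wfM M && decide (∀ i : GolayPt, i ≠ none → imgOK M (pairVec i none 1) = true ∧ imgOK M (pairVec i none (-1)) = true) &&
    octBasis.all (fun o => imgOK M (dbl (ofMaskW o))) && imgOK M oddVec

theorem lat_spec {M : IMat} (h : latOK M = true) {x : Zv} (hx : x ∈ leechLattice) :
    (fun p => lin M x p / 8) ∈ leechLattice ∧ lin M x = (8 : ℤ) • fun p => lin M x p / 8 := by
  let A : AddSubgroup Zv :=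
    { carrier := {x | x ∈ leechLattice ∧ ∃ y ∈ leechLattice, lin M x = (8 : ℤ) • y}
      zero_mem' := ⟨zero_mem _, 0, zero_mem _, by rw [lin_zero, smul_zero]⟩
      add_mem' := by
        rintro a b ⟨ha, y, hy, ea⟩ ⟨hb, z, hz, eb⟩
        exact ⟨add_mem ha hb, y + z, add_mem hy hz, by rw [lin_add, ea, eb, smul_add]⟩
      neg_mem' := by
        rintro a ⟨ha, y, hy, ea⟩
        exact ⟨neg_mem ha, -y, neg_mem hy, by rw [lin_neg, ea, smul_neg]⟩ }
  simp only [latOK, Bool.and_eq_true, decide_eq_true_eq, List.all_eq_true] at h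
  have mk : ∀ {y : Zv}, y ∈ leechLattice → imgOK M y = true → y ∈ A := fun hy hh => ⟨hy, img_spec h.1.1.1 hh⟩
  have hle : leechLattice ≤ A := leech_le_of A (fun a ha => ha.1)
    (fun i hi => ⟨mk (pairVec_spec hi (Or.inl rfl)).1 (h.1.1.2 i hi).1,
      mk (pairVec_spec hi (Or.inr rfl)).1 (h.1.1.2 i hi).2⟩)
    (fun o ho => mk (dbl_octBasis ho).1 (h.1.2 o ho)) (mk oddVec_mem h.2)
  obtain ⟨-, y, hy, e⟩ := hle hx
  have : (fun p => lin M x p / 8) = y := funext fun p => by simp [e]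
  rw [this]; exact ⟨hy, e⟩

/-- the full check -/
def matOK (M : IMat) : Bool := orthOK M && latOK M && latOK (trM M)

theorem sqNorm_lin {M : IMat} (h : orthOK M = true) (x : Zv) : sqNorm (lin M x) = 64 * sqNorm x := by
  have e := orth_spec h
  simp only [sqNorm, sq, lin, Finset.sum_mul, Finset.mul_sum]
  rw [Finset.sum_comm]
  refine Finset.sum_congr rfl fun q _ => ?_
  rw [Finset.sum_comm]
  have hr : ∀ r, (∑ p, ent M p r * x r * (ent M p q * x q)) = if q = r then 64 * (x q * x r) else 0 := by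
    intro r
    rw [show (∑ p, ent M p r * x r * (ent M p q * x q)) = (∑ p, ent M p q * ent M p r) * (x q * x r) by
      rw [Finset.sum_mul]; exact Finset.sum_congr rfl fun p _ => by ring, (e q r).1]
    split_ifs <;> simp
  simp only [hr, Finset.sum_ite_eq, Finset.mem_univ, if_true]

theorem exists_el {M : IMat} (h : matOK M = true) : ∃ g : ↥Co0, El g M := by
  simp only [matOK, Bool.and_eq_true] at h
  obtain ⟨⟨ho, hl⟩, ht⟩ := h
  have e := orth_spec ho
  have hw : wfM M = true := by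
    have h2 := ho
    simp only [orthOK, prodEq, Bool.and_eq_true] at h2
    exact h2.2.1.1.1.1
  have inv1 : ∀ x : Zv, lin (trM M) (lin M x) = (64 : ℤ) • x := fun x => by
    rw [lin_lin]; funext p
    simp [ent_trM hw, (e p _).1]
  have inv2 : ∀ x : Zv, lin M (lin (trM M) x) = (64 : ℤ) • x := fun x => by
    rw [lin_lin]; funext p
    simp [ent_trM hw, (e p _).2]
  set f : Zv → Zv := fun x p => lin M x p / 8 with hf
  set f' : Zv → Zv := fun x p => lin (trM M) x p / 8 with hf'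
  have hgf : ∀ v ∈ leechLattice, f' (f v) = v := by
    intro v hv
    have h1 := (lat_spec ht (lat_spec hl hv).1).2
    refine smul_cancel (c := 64) (by norm_num) ?_
    rw [← inv1 v, (lat_spec hl hv).2, lin_smul, h1, smul_smul]
    norm_num [hf, hf']
  have hfg : ∀ v ∈ leechLattice, f (f' v) = v := by
    intro v hv
    have h1 := (lat_spec hl (lat_spec ht hv).1).2
    refine smul_cancel (c := 64) (by norm_num) ?_
    rw [← inv2 v, (lat_spec ht hv).2, lin_smul, h1, smul_smul]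
    norm_num [hf, hf']
  have hadd : ∀ v ∈ leechLattice, ∀ w ∈ leechLattice, f (v + w) = f v + f w := by
    intro v hv w hw
    refine smul_cancel (c := 8) (by norm_num) ?_
    rw [smul_add, ← (lat_spec hl hv).2, ← (lat_spec hl hw).2, ← (lat_spec hl (add_mem hv hw)).2, lin_add]
  have hn : ∀ v ∈ leechLattice, sqNorm (f v) = sqNorm v := by
    intro v hv
    have h1 := sqNorm_lin ho v
    rw [(lat_spec hl hv).2] at h1
    simp only [sqNorm, Pi.smul_apply, smul_eq_mul, mul_pow, ← Finset.mul_sum] at h1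
    simp only [sqNorm]
    linarith
  obtain ⟨a, ha⟩ := exists_aut f f' (fun v hv => (lat_spec hl hv).1) (fun v hv => (lat_spec ht hv).1)
    hgf hfg hadd hn
  refine ⟨a, fun x hx => ?_⟩
  rw [(lat_spec hl hx).2, show act a x = f x from ?_]
  rw [show x = ((⟨x, hx⟩ : ↥leechLattice) : Zv) from rfl, act_coe]
  exact ha _

/-- scalar matrices and sign changes -/
def diagM (f : GolayPt → ℤ) : IMat :=
  (List.range 24).map fun i => rowAt i (f (pt i))

theorem lin_diag (f : GolayPt → ℤ) (x : Zv) : lin (diagM f) x = fun p => f p * x p := by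
  funext p
  have : ∀ q, ent (diagM f) p q = if p = q then f p else 0 := by
    intro q
    rw [ent, show (diagM f).getD (idx p) [] = rowAt (idx p) (f (pt (idx p))) by
      simp [diagM, List.getD_eq_getElem, idx_lt], rowAt_getD (idx_lt p), pt_idx]
    simp [idx_injective.eq_iff, eq_comm]
  simp [lin, this]

/-- the sign change of the octad -/
def epsM : IMat := diagM fun p => if Nat.testBit 5279 (idx p) then -8 else 8

/-- minus one -/
def negM : IMat := diagM fun _ => -8

/-- the centre of the kernel -/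
def zPM : IMat := diagM fun p => if Nat.testBit 5279 (idx p) then 8 else -8

theorem el_eps : El eps epsM := fun x hx => by
  rw [epsM, lin_diag, eps_act hx]
  funext p; cases hb : Nat.testBit 5279 (idx p) <;> simp [sgn, ofMaskW, hb]

theorem el_neg : El nEl negM := fun x hx => by
  rw [negM, lin_diag, nEl_act hx]
  funext p; simp

theorem el_zP : El (nEl * eps) zPM := fun x hx => by
  rw [zPM, lin_diag, act_mul _ _ hx, eps_act hx, nEl_act (sgn_mem octW_mem hx)]
  funext p; cases hb : Nat.testBit 5279 (idx p) <;> simp [sgn, ofMaskW, hb]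

/-- check that a matrix fixes the sublattice -/
def q0OK (M : IMat) : Bool :=
  wfM M && gens8.all fun g => decide (imgL M (vecL g) = (vecL g).map fun a => 8 * a)

theorem q0_lin {M : IMat} (h : q0OK M = true) : ∀ g ∈ gens8, lin M g = (8 : ℤ) • g := by
  simp only [q0OK, Bool.and_eq_true, List.all_eq_true, decide_eq_true_eq] at h
  obtain ⟨hl, hr⟩ := wfM_spec h.1
  intro g hg
  funext p
  have e := congrArg (fun l : List ℤ => l.getD (idx p) 0) (h.2 g hg)
  simp [imgL, vecL, List.getD_eq_getElem, hl, idx_lt, pt_idx] at e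
  rw [← List.getD_eq_getElem M [] (hl.symm ▸ idx_lt p), dotL_eq 24 _ _ (hr _ (idx_lt p)).1 (by simp)] at e
  rw [Pi.smul_apply, smul_eq_mul, ← e, lin,
    ← sum_idx (fun k => (M.getD (idx p) []).getD k 0 * ((List.range 24).map fun i => g (pt i)).getD k 0)]
  refine Finset.sum_congr rfl fun q _ => ?_
  congr 1
  simp [List.getD_eq_getElem, idx_lt, pt_idx]

theorem El.mem_Q0 {g : ↥C0} {M : IMat} (hg : El (g : ↥Co0) M) (h : q0OK M = true) : g ∈ Q0 := by
  have e := q0_lin h
  refine fun x hx => L8_induction (P := fun x => act (g : ↥Co0) x = x) (fun a ha => ?_) (act_zero _)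
    (fun a ha b hb iha ihb => ?_) (fun a ha iha => ?_) hx
  · exact smul_cancel (c := 8) (by norm_num) ((hg a (l8Check_mem (gens8_ok a ha)).1).symm.trans (e a ha))
  · rw [act_add _ ha.1 hb.1, iha, ihb]
  · rw [act_neg _ ha.1, iha]

theorem el_one : El 1 idM := fun x hx => by
  funext p
  simp [lin, ent_idM, act_one hx, ite_mul]

/-- a monomial matrix -/
def monoM (l : List ℕ) (w : ℕ) : IMat :=
  (List.range 24).map fun i => rowAt (l.idxOf i) (if Nat.testBit w i then -8 else 8)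

/-- the check of a monomial matrix -/
def monoOK (l : List ℕ) (w : ℕ) : Bool := m24ok l && inCode w

theorem exists_mono {l : List ℕ} {w : ℕ} (h : monoOK l w = true) : ∃ g : ↥Co0, El g (monoM l w) := by
  simp only [monoOK, Bool.and_eq_true] at h
  have hlok : lok l = true := by
    have := h.1; simp only [m24ok, Bool.and_eq_true] at this; exact this.1
  obtain ⟨g, hg⟩ := mono_exists (lperm_mem h.1) (word_of_mask (inCode_mem h.2))
  refine ⟨g, fun x hx => ?_⟩
  rw [IsMono.act hg hx]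
  funext p
  set σ := lperm l
  have hlen : l.length = 24 := by
    simp only [lok, Bool.and_eq_true, beq_iff_eq] at hlok; exact hlok.1.1
  have hmem : idx p ∈ l := by
    have h2 := hlok
    simp only [lok, Bool.and_eq_true, List.all_eq_true] at h2
    exact List.elem_iff.1 (h2.2 _ (List.mem_range.2 (idx_lt p)))
  have hlt : l.idxOf (idx p) < 24 := hlen ▸ List.idxOf_lt_length_iff.2 hmem
  have hpos : idx (σ.symm p) = l.idxOf (idx p) := by
    have e : l.getD (l.idxOf (idx p)) 0 = idx p := by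
      rw [List.getD_eq_getElem _ _ (hlen.symm ▸ hlt)]; exact List.getElem_idxOf _
    have e2 := rep_lperm hlok (pt (l.idxOf (idx p)))
    rw [idx_pt _ hlt, e] at e2
    rw [show σ.symm p = pt (l.idxOf (idx p)) by rw [Equiv.symm_apply_eq]; exact idx_injective e2, idx_pt _ hlt]
  have hent : ∀ q, ent (monoM l w) p q = if σ q = p then (if Nat.testBit w (idx p) then -8 else 8) else 0 := by
    intro q
    rw [ent, show (monoM l w).getD (idx p) [] = rowAt (l.idxOf (idx p)) (if Nat.testBit w (idx p) then -8 else 8) by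
      simp [monoM, List.getD_eq_getElem, idx_lt], rowAt_getD hlt]
    have hiff : idx q = l.idxOf (idx p) ↔ σ q = p := by
      rw [← hpos, idx_injective.eq_iff, Equiv.eq_symm_apply]
    simp only [hiff]
  have hval : ∀ q, σ q = p ↔ q = σ.symm p := fun q => by rw [Equiv.eq_symm_apply]
  simp only [lin, hent, hval, ite_mul, zero_mul, Finset.sum_ite_eq', Finset.mem_univ, if_true, Pi.smul_apply,
    smul_eq_mul, sgn, prm, ofMaskW]
  by_cases hb : Nat.testBit w (idx p) = true <;> simp [hb]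

/-- the element of a monomial matrix -/
noncomputable def elMono (l : List ℕ) (w : ℕ) : ↥Co0 :=
  open Classical in if h : monoOK l w = true then Classical.choose (exists_mono h) else 1

theorem elMono_spec {l : List ℕ} {w : ℕ} (h : monoOK l w = true) : El (elMono l w) (monoM l w) := by
  rw [elMono, dif_pos h]; exact Classical.choose_spec (exists_mono h)

/-- the element of a matrix -/
noncomputable def el (M : IMat) : ↥Co0 :=
  open Classical in if h : matOK M = true then Classical.choose (exists_el h) else 1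

theorem el_spec {M : IMat} (h : matOK M = true) : El (el M) M := by
  rw [el, dif_pos h]; exact Classical.choose_spec (exists_el h)

end Cfsg.Agent.Spor.Co0Sec
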