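/-
The data of a section of the automorphism group of the Leech lattice at an element of odd prime order.
-/
import Cfsg.Agent.Lib.Spor.Co0Sec.MatEl
import Cfsg.Agent.Lib.Spor.Co0Sec.Form
import Cfsg.Agent.Lib.Spor.Co0Sec.Chain
import Cfsg.Agent.Lib.Spor.Co1Invol.Main

set_option autoImplicit false
set_option maxRecDepth 100000

namespace Cfsg.Agent.Spor.Co0Sec

open Cfsg Cfsg.Agent.Spor Cfsg.Agent.Spor.Co1Invol

/-- the centre of the trivially acting elements -/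
noncomputable def Z0 : ↥C0 := nC * epsC

theorem Z0_mem : Z0 ∈ Q0 := zPrime_mem

theorem Z0_ne : Z0 ≠ 1 := fun e => by
  have h : nEl * eps = 1 := congrArg Subtype.val e
  have h2 := congrFun (congrArg (fun k : ↥Co0 => act k (e8 (pt 5) : GolayPt → ℤ)) h) (pt 5)
  simp only [act_mul _ _ (e8 (pt 5)).2, act_one (e8 (pt 5)).2] at h2
  rw [eps_act (e8 (pt 5)).2, nEl_act (sgn_mem octW_mem (e8 (pt 5)).2)] at h2
  have hp : pt 5 ∉ oct := by decide +kernel
  simp [sgn, e8, octW_val, hp] at h2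

theorem Z0_cen (h : ↥C0) : Z0 * h = h * Z0 := by
  refine Subtype.ext ?_
  show nEl * eps * (h : ↥Co0) = (h : ↥Co0) * (nEl * eps)
  rw [mul_assoc, mem_C0.1 h.2, ← mul_assoc, ← Subgroup.mem_center_iff.1 nEl_center, mul_assoc]

theorem Z0_sq : Z0 * Z0 = 1 := by
  show nC * epsC * (nC * epsC) = 1
  rw [mul_assoc, ← mul_assoc epsC nC, show epsC * nC = nC * epsC from Subtype.ext
    (Subgroup.mem_center_iff.1 nEl_center eps), mul_assoc nC epsC epsC,
    show epsC * epsC = 1 from Subtype.ext eps_sq, mul_one, nC_sq]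

theorem nC_cen (c : ↥C0) : nC * c = c * nC :=
  Subtype.ext (Subgroup.mem_center_iff.1 nEl_center (c : ↥Co0)).symm

/-- the sign -/
noncomputable def sgnC (b : Bool) : ↥C0 := if b then nC else 1

theorem sgnC_cen (b : Bool) (w : ↥C0) : sgnC b * w = w * sgnC b := by
  cases b
  · simp [sgnC]
  · simpa [sgnC] using nC_cen w

theorem sgnC_mul (b c : Bool) : sgnC b * sgnC c = sgnC (xor b c) := by
  cases b <;> cases c <;> simp [sgnC, nC_sq]

/-- the data -/
structure Dat (ι : Type) [Fintype ι] [DecidableEq ι] where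
  p : ℕ
  hp : p.Prime
  hp2 : p ≠ 2
  a : ↥C0
  a_pow : a ^ p = 1
  a_ne : a ≠ 1
  δ : ι → ι
  Qf : (ι → ZMod 2) → ZMod 2
  pol_dual : ∀ i j, polF Qf (eu i) (eu (δ j)) = if i = j then 1 else 0
  pol_add : ∀ u v w, polF Qf (u + v) w = polF Qf u w + polF Qf v w
  Qf_zero : Qf 0 = 0
  q : ι → ↥C0
  q_mem : ∀ i, q i ∈ Q0
  q_a : ∀ i, q i * a = a * q i
  q_sq : ∀ i, q i * q i = zp Z0 (Qf (eu i))
  q_comm : ∀ i j, q i * q j = zp Z0 (polF Qf (eu i) (eu j)) * (q j * q i)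
  n : ℕ
  hn : 512 ≤ n * 2 ^ (Fintype.card ι + 1)
  r : Fin n → ↥C0
  r_mem : ∀ k, r k ∈ Q0
  r_inj : Function.Injective fun k => r k * a * (r k)⁻¹
  R : ℕ
  hup : Nat.card ↥(Subgroup.centralizer ({phi a} : Set ↥(isometryGroup (ZMod 2) (quadFormPlus 4 (ZMod 2))))) ≤
    p * R

namespace Dat

variable {ι : Type} [Fintype ι] [DecidableEq ι] (D : Dat ι)

/-- the centraliser of the element -/
noncomputable def C : Subgroup ↥C0 := Subgroup.centralizer ({D.a} : Set ↥C0)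

theorem mem_C {c : ↥C0} : c ∈ D.C ↔ D.a * c = c * D.a := by
  rw [C, Subgroup.mem_centralizer_singleton_iff]; exact eq_comm

theorem a_mem : D.a ∈ D.C := D.mem_C.2 rfl

theorem nC_mem : nC ∈ D.C := D.mem_C.2 (nC_cen D.a).symm

/-- the centraliser in the trivially acting elements -/
noncomputable def P : Subgroup ↥C0 := Q0 ⊓ D.C

theorem card_P : Nat.card ↥D.P ≤ 2 ^ (Fintype.card ι + 1) := by
  haveI : Finite ↥C0 := by
    haveI : Finite ↥Co0 := co0_finite
    infer_instance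
  have h := Subgroup.index_mul_card (D.P.subgroupOf Q0)
  rw [Nat.card_congr (Subgroup.subgroupOfEquivOfLe (show D.P ≤ Q0 from inf_le_left)).toEquiv, card_Q0] at h
  have hidx : D.n ≤ (D.P.subgroupOf Q0).index := by
    let f : Fin D.n → ↥Q0 ⧸ D.P.subgroupOf Q0 := fun k => QuotientGroup.mk ⟨D.r k, D.r_mem k⟩
    have hf : Function.Injective f := by
      intro j k e
      have e' := QuotientGroup.eq.1 e
      have hC : (D.r j)⁻¹ * D.r k ∈ D.C := (Subgroup.mem_subgroupOf.1 e').2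
      refine D.r_inj ?_
      show D.r j * D.a * (D.r j)⁻¹ = D.r k * D.a * (D.r k)⁻¹
      calc D.r j * D.a * (D.r j)⁻¹ = D.r j * (D.a * ((D.r j)⁻¹ * D.r k)) * (D.r k)⁻¹ := by group
        _ = D.r j * (((D.r j)⁻¹ * D.r k) * D.a) * (D.r k)⁻¹ := by rw [D.mem_C.1 hC]
        _ = _ := by group
    have := Nat.card_le_card_of_injective f hf
    rwa [Nat.card_fin] at this
  have hnpos : 0 < D.n := by
    rcases Nat.eq_zero_or_pos D.n with h0 | h0
    · have := D.hn; rw [h0, zero_mul] at this; omega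
    · exact h0
  have h1 : D.n * Nat.card ↥D.P ≤ D.n * 2 ^ (Fintype.card ι + 1) :=
    ((Nat.mul_le_mul_right _ hidx).trans h.le).trans D.hn
  exact Nat.le_of_mul_le_mul_left h1 hnpos

/-- the coordinates -/
noncomputable def sx : Sx ↥C0 ι where
  P := D.P
  z := Z0
  q := D.q
  δ := D.δ
  Qf := D.Qf
  z_ne := Z0_ne
  z_sq := Z0_sq
  z_mem := ⟨Z0_mem, D.mem_C.2 (Z0_cen _).symm⟩
  z_cen := Z0_cen
  q_mem i := ⟨D.q_mem i, D.mem_C.2 (D.q_a i).symm⟩
  sq_cases x hx := sq_cases hx.1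
  comm_cases x hx y hy := comm_cases hx.1 hy.1
  finite := by
    haveI : Finite ↥Co0 := co0_finite
    haveI : Finite ↥C0 := Subtype.finite
    exact Subtype.finite
  card_le := D.card_P
  q_sq := D.q_sq
  q_comm := D.q_comm
  pol_dual := D.pol_dual
  pol_add := D.pol_add
  Qf_zero := D.Qf_zero

theorem norms : ∀ c ∈ D.C, D.sx.Norms c := by
  intro c hc x hx
  exact Subgroup.mem_inf.2 ⟨Q0_normal.conj_mem x hx.1 c, mul_mem (mul_mem hc hx.2) (inv_mem hc)⟩

/-- the action on the coordinates -/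
noncomputable def act6 : ↥D.C →* ↥(isometryGroup (ZMod 2) D.Qf) := D.sx.rho D.C D.norms

theorem act6_eq_one {c : ↥D.C} (h : D.sx.conjMat (c : ↥C0) = 1) : D.act6 c = 1 :=
  Subtype.ext (Units.ext ((D.sx.rho_apply D.C D.norms c).trans h))

theorem sgnC_mem (b : Bool) : sgnC b ∈ D.C := by
  cases b
  · simp [sgnC]
  · exact D.nC_mem

theorem sgnC_ker (b : Bool) : D.act6 ⟨sgnC b, D.sgnC_mem b⟩ = 1 :=
  D.act6_eq_one (D.sx.conjMat_comm fun i => sgnC_cen b _)

theorem a_ker : D.act6 ⟨D.a, D.a_mem⟩ = 1 :=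
  D.act6_eq_one (D.sx.conjMat_comm fun i => (D.q_a i).symm)

theorem nC_ker : D.act6 ⟨nC, D.nC_mem⟩ = 1 :=
  D.act6_eq_one (D.sx.conjMat_comm fun i => nC_cen _)

theorem P_ker {c : ↥D.C} (hc : (c : ↥C0) ∈ Q0) : D.act6 c = 1 :=
  D.act6_eq_one (D.sx.conjMat_mem ⟨hc, c.2⟩)

theorem finite_C : Finite ↥D.C := by
  haveI : Finite ↥Co0 := co0_finite
  haveI : Finite ↥C0 := Subtype.finite
  exact Subtype.finite

theorem two_pow_eq_one {x : ↥C0} (hx : x ∈ Q0) (h : x ^ D.p = 1) : x = 1 := by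
  have h4 : x ^ 4 = 1 := by
    rw [show 4 = 2 * 2 from rfl, pow_mul, pow_two x]
    rcases sq_cases hx with e | e <;> rw [e]
    · exact one_pow 2
    · rw [pow_two]; exact Z0_sq
  have hd := Nat.dvd_gcd (orderOf_dvd_of_pow_eq_one h4) (orderOf_dvd_of_pow_eq_one h)
  have hg : Nat.gcd 4 D.p = 1 := by
    refine Nat.Coprime.pow_left 2 (?_ : Nat.Coprime 2 D.p)
    exact (Nat.coprime_primes Nat.prime_two D.hp).2 (Ne.symm D.hp2)
  rwa [hg, Nat.dvd_one, orderOf_eq_one_iff] at hd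

/-- the candidate elements of the kernel -/
noncomputable def kerMap (t : Fin D.p × Bool × ↥D.P) : ↥D.C :=
  ⟨D.a ^ (t.1 : ℕ) * (sgnC t.2.1 * (t.2.2 : ↥C0)),
    mul_mem (pow_mem D.a_mem _) (mul_mem (D.sgnC_mem _) t.2.2.2.2)⟩

theorem kerMap_mem (t : Fin D.p × Bool × ↥D.P) : D.kerMap t ∈ D.act6.ker := by
  rw [MonoidHom.mem_ker]
  have e : D.kerMap t = (⟨D.a, D.a_mem⟩ : ↥D.C) ^ (t.1 : ℕ) *
      (⟨sgnC t.2.1, D.sgnC_mem _⟩ * ⟨(t.2.2 : ↥C0), t.2.2.2.2⟩) := rfl
  rw [e, map_mul, map_mul, map_pow, D.a_ker, one_pow, one_mul,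
    D.P_ker (c := ⟨(t.2.2 : ↥C0), t.2.2.2.2⟩) t.2.2.2.1, mul_one, D.sgnC_ker]

theorem orderOf_a : orderOf D.a = D.p :=
  haveI := Fact.mk D.hp
  orderOf_eq_prime D.a_pow D.a_ne

theorem pow_a_sep {i j : Fin D.p} {b c : Bool} {x y : ↥C0} (hx : x ∈ D.P) (hy : y ∈ D.P)
    (e : D.a ^ (i : ℕ) * (sgnC b * x) = D.a ^ (j : ℕ) * (sgnC c * y)) : i = j ∧ b = c ∧ x = y := by
  set d : Bool := xor b c with hd
  set t : ℤ := (i : ℤ) - (j : ℤ) with ht
  have h1 : D.a ^ t = sgnC d * (y * x⁻¹) := by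
    rw [← zpow_natCast D.a i, ← zpow_natCast D.a j] at e
    have hb : (sgnC b)⁻¹ = sgnC b := inv_eq_of_mul_eq_one_right (by rw [sgnC_mul]; cases b <;> rfl)
    calc D.a ^ t = (D.a ^ ((j : ℕ) : ℤ))⁻¹ * (D.a ^ ((i : ℕ) : ℤ) * (sgnC b * x)) * (sgnC b * x)⁻¹ := by
          rw [ht]; group
      _ = sgnC c * y * x⁻¹ * (sgnC b)⁻¹ := by rw [e]; group
      _ = sgnC c * (y * x⁻¹) * sgnC b := by rw [hb]; group
      _ = sgnC b * (sgnC c * (y * x⁻¹)) := (sgnC_cen b _).symm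
      _ = _ := by rw [← mul_assoc, sgnC_mul]
  have hw : y * x⁻¹ ∈ D.P := mul_mem hy (inv_mem hx)
  have hsq : D.a ^ (t * 2) = y * x⁻¹ * (y * x⁻¹) := by
    rw [zpow_mul, h1, zpow_two]
    calc sgnC d * (y * x⁻¹) * (sgnC d * (y * x⁻¹)) = sgnC d * ((y * x⁻¹) * sgnC d) * (y * x⁻¹) := by
          simp only [mul_assoc]
      _ = sgnC d * (sgnC d * (y * x⁻¹)) * (y * x⁻¹) := by rw [sgnC_cen d (y * x⁻¹)]
      _ = _ := by rw [← mul_assoc (sgnC d) (sgnC d), sgnC_mul, Bool.xor_self]; simp [sgnC]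
  have hp : (D.a ^ (t * 2)) ^ D.p = 1 := by
    rw [← zpow_natCast, ← zpow_mul, mul_comm, zpow_mul, zpow_natCast, D.a_pow, one_zpow]
  have h2 := D.two_pow_eq_one (mul_mem hw.1 hw.1) (hsq ▸ hp)
  rw [← hsq, ← orderOf_dvd_iff_zpow_eq_one, D.orderOf_a] at h2
  have hdt : (D.p : ℤ) ∣ t := by
    refine (Int.Prime.dvd_mul' D.hp h2).resolve_right fun h => ?_
    have := (Nat.prime_dvd_prime_iff_eq D.hp Nat.prime_two).1 (Int.natCast_dvd_natCast.1 (by simpa using h))
    exact D.hp2 this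
  have h0 : t = 0 := by
    have hi := i.2
    have hj := j.2
    refine Int.eq_zero_of_abs_lt_dvd hdt ?_
    rw [abs_lt]; omega
  have hij : i = j := Fin.ext (by omega)
  have h3 : sgnC d * (y * x⁻¹) = 1 := by rw [← h1, h0, zpow_zero]
  cases hdb : d
  · rw [hdb] at h3 hd
    simp only [sgnC, Bool.false_eq_true, if_false, one_mul, mul_inv_eq_one] at h3
    exact ⟨hij, by cases b <;> cases c <;> simp at hd ⊢, h3.symm⟩
  · exfalso
    rw [hdb] at h3
    simp only [sgnC, if_true] at h3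
    exact nC_not_mem ((eq_inv_of_mul_eq_one_left h3) ▸ inv_mem hw.1)

theorem coord_inj_card : 2 ^ (Fintype.card ι + 1) ≤ Nat.card ↥D.P := by
  haveI := D.sx.finite
  haveI : Finite ↥D.P := D.sx.finite
  choose f hf hfc using D.sx.coord_surj
  let g : Bool × (ι → ZMod 2) → ↥D.P := fun t =>
    ⟨(if t.1 then Z0 else 1) * f t.2,
      mul_mem (by split_ifs; exacts [D.sx.z_mem, one_mem _]) (D.sx.closure_q_le (hf _))⟩
  have hg : Function.Injective g := by
    rintro ⟨b, v⟩ ⟨c, w⟩ e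
    have e' : (if b then Z0 else 1) * f v = (if c then Z0 else 1) * f w := congrArg Subtype.val e
    have hv : ∀ (d : Bool) (u : ι → ZMod 2), D.sx.coord ((if d then Z0 else 1) * f u) = u := fun d u => by
      cases d
      · simp [hfc]
      · simp only [if_true]
        show D.sx.coord (D.sx.z * f u) = u
        rw [D.sx.coord_mul D.sx.z_mem (D.sx.closure_q_le (hf u)), hfc]
        rw [D.sx.coord_z, zero_add]
    have hvw : v = w := (hv b v).symm.trans ((congrArg D.sx.coord e').trans (hv c w))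
    subst hvw
    have := mul_right_cancel e'
    cases b <;> cases c <;> simp [Z0_ne, Ne.symm Z0_ne] at this ⊢
  have := Nat.card_le_card_of_injective g hg
  simpa [Nat.card_prod, pow_succ, Nat.mul_comm] using this

theorem card_P_eq : Nat.card ↥D.P = 2 ^ (Fintype.card ι + 1) := le_antisymm D.card_P D.coord_inj_card

theorem card_C_le : Nat.card ↥D.C ≤ (D.p * D.R) * (2 * 2 ^ (Fintype.card ι + 1)) := by
  haveI := D.finite_C
  let f : ↥D.C →* ↥(isometryGroup (ZMod 2) (quadFormPlus 4 (ZMod 2))) := phi.comp D.C.subtype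
  rw [← Subgroup.index_mul_card f.ker, Subgroup.index_ker]
  refine Nat.mul_le_mul ((Nat.card_le_card_of_injective (fun x : ↥f.range =>
    (⟨(x : _), by
      obtain ⟨c, hc⟩ := x.2
      rw [Subgroup.mem_centralizer_singleton_iff, ← hc]
      show phi (c : ↥C0) * phi D.a = phi D.a * phi (c : ↥C0)
      rw [← map_mul, ← map_mul, D.mem_C.1 c.2]⟩ :
      ↥(Subgroup.centralizer ({phi D.a} : Set ↥(isometryGroup (ZMod 2) (quadFormPlus 4 (ZMod 2)))))))
    fun x y e => Subtype.ext (by simpa using congrArg Subtype.val e)).trans D.hup) ?_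
  haveI : Finite ↥D.P := D.sx.finite
  let g : Bool × ↥D.P → ↥D.C := fun t =>
    ⟨sgnC t.1 * (t.2 : ↥C0), mul_mem (D.sgnC_mem _) t.2.2.2⟩
  have hsub : (f.ker : Set ↥D.C) ⊆ Set.range g := by
    intro c hc
    rcases ker_cases (g := (c : ↥C0)) (MonoidHom.mem_ker.1 hc) with h | h
    · exact ⟨(false, ⟨c, h, c.2⟩), Subtype.ext (one_mul _)⟩
    · refine ⟨(true, ⟨_, h, mul_mem D.nC_mem c.2⟩), Subtype.ext ?_⟩
      show nC * (nC * (c : ↥C0)) = c
      rw [← mul_assoc, nC_sq, one_mul]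
  have h1 := Set.ncard_le_ncard hsub (Set.toFinite _)
  rw [← Nat.card_coe_set_eq, ← Nat.card_coe_set_eq] at h1
  refine h1.trans ((Finite.card_range_le g).trans ?_)
  simp [Nat.card_prod, D.card_P_eq]

theorem kerMap_injective : Function.Injective D.kerMap := by
  rintro ⟨i, b, x⟩ ⟨j, c, y⟩ e
  obtain ⟨h1, h2, h3⟩ := D.pow_a_sep x.2 y.2 (congrArg Subtype.val e)
  simp only at h1 h2
  rw [h1, h2, Subtype.ext h3]

theorem ker_ge : D.p * (2 * 2 ^ (Fintype.card ι + 1)) ≤ Nat.card ↥D.act6.ker := by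
  haveI := D.finite_C
  have := Nat.card_le_card_of_injective (fun t => (⟨D.kerMap t, D.kerMap_mem t⟩ : ↥D.act6.ker))
    fun s t e => D.kerMap_injective (congrArg Subtype.val e)
  simpa [Nat.card_prod, D.card_P_eq] using this

theorem range_le : Nat.card ↥D.act6.range ≤ D.R := by
  haveI := D.finite_C
  have h := Subgroup.index_mul_card D.act6.ker
  rw [Subgroup.index_ker] at h
  have h1 : Nat.card ↥D.act6.range * (D.p * (2 * 2 ^ (Fintype.card ι + 1))) ≤
      D.R * (D.p * (2 * 2 ^ (Fintype.card ι + 1))) :=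
    ((Nat.mul_le_mul_left _ D.ker_ge).trans h.le).trans (D.card_C_le.trans (le_of_eq (by ring)))
  exact Nat.le_of_mul_le_mul_right h1
    (Nat.mul_pos D.hp.pos (Nat.mul_pos (by norm_num) (pow_pos (by norm_num) _)))

theorem ker_form (hR : D.R ≤ Nat.card ↥D.act6.range) {c : ↥D.C} (hc : c ∈ D.act6.ker) :
    ∃ t, D.kerMap t = c := by
  haveI := D.finite_C
  haveI : Finite ↥D.P := D.sx.finite
  have h := Subgroup.index_mul_card D.act6.ker
  rw [Subgroup.index_ker, le_antisymm D.range_le hR] at h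
  have hR0 : 0 < D.R := le_antisymm D.range_le hR ▸ Nat.card_pos
  have h1 : D.R * Nat.card ↥D.act6.ker ≤ D.R * (D.p * (2 * 2 ^ (Fintype.card ι + 1))) :=
    (h.le.trans D.card_C_le).trans (le_of_eq (by ring))
  have hle := Nat.le_of_mul_le_mul_left h1 hR0
  have hb := (Function.Injective.bijective_of_nat_card_le
    (f := fun t => (⟨D.kerMap t, D.kerMap_mem t⟩ : ↥D.act6.ker))
    (fun s t e => D.kerMap_injective (congrArg Subtype.val e)) (by
      simpa [Nat.card_prod, D.card_P_eq] using hle)).2 ⟨c, hc⟩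
  obtain ⟨t, ht⟩ := hb
  exact ⟨t, congrArg Subtype.val ht⟩

end Dat

end Cfsg.Agent.Spor.Co0Sec
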