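/-
Computable checks for the data: equations between products, and the two chains.
-/
import Cfsg.Agent.Lib.Spor.Co0Sec.Dat
import Cfsg.Agent.Lib.Spor.Co1Invol.Image

set_option autoImplicit false
set_option maxRecDepth 100000

namespace Cfsg.Agent.Spor.Co0Sec

open Cfsg Cfsg.Agent.Spor Cfsg.Agent.Spor.Co1Invol

local notation "Zv" => GolayPt → ℤ

theorem El.of_prod {g h : ↥Co0} {M N P : IMat} (hg : El g M) (hh : El h N) (hc : prodEq M N P idM = true) :
    El (g * h) P := by
  intro x hx
  refine smul_cancel (c := 8) (by norm_num) ?_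
  have h1 := hg.lin_comp hh hx
  rw [lin_lin] at h1
  rw [smul_smul]
  refine Eq.trans ?_ h1
  funext p
  simp only [Pi.smul_apply, smul_eq_mul, lin, Finset.mul_sum, prodEq_spec hc]
  refine Finset.sum_congr rfl fun r _ => ?_
  simp [ent_idM, mul_ite, Finset.sum_ite_eq', mul_comm, mul_left_comm]

theorem El.ne_of_ent {g h : ↥Co0} {M N : IMat} (hg : El g M) (hh : El h N) {p r : GolayPt}
    (hne : ent M p r ≠ ent N p r) : g ≠ h := fun e => by
  subst e
  have h1 := congrFun ((hg _ (e8 r).2).trans (hh _ (e8 r).2).symm) p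
  simp [lin, e8, Pi.single_apply] at h1
  exact hne h1

theorem El.act_eq {g : ↥Co0} {M : IMat} (hg : El g M) {x : Zv} (hx : x ∈ leechLattice) :
    act g x = fun p => lin M x p / 8 := by
  funext p; rw [congrFun (hg x hx) p]; simp

theorem C0_of_check {g : ↥Co0} {M : IMat} (h : El g M) (hc : prodEq M epsM epsM M = true) : g ∈ C0 :=
  mem_C0.2 (h.prod el_eps el_eps h hc).symm

theorem C0_prod {g h k l : ↥C0} {M N P Q : IMat} (hg : El (g : ↥Co0) M) (hh : El (h : ↥Co0) N)
    (hk : El (k : ↥Co0) P) (hl : El (l : ↥Co0) Q) (e : prodEq M N P Q = true) : g * h = k * l :=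
  Subtype.ext (hg.prod hh hk hl e)

/-- the commutator check -/
def commBit (M N : IMat) (a : ZMod 2) : Bool := if a = 0 then prodEq M N N M else prodNe M N N M

/-- the square check -/
def sqBit (M : IMat) (a : ZMod 2) : Bool := if a = 0 then prodEq M M idM idM else prodNe M M idM idM

theorem El.b_val {g h : ↥C0} {M N : IMat} (hg : El (g : ↥Co0) M) (hh : El (h : ↥Co0) N) {a : ZMod 2}
    (ha : commBit M N a = true) : Sx.b g h = a := by
  unfold Sx.b
  rcases two_cases a with rfl | rfl
  · rw [if_pos (C0_prod hg hh hh hg (by simpa [commBit] using ha))]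
  · rw [if_neg fun c => hg.prod_ne hh hh hg (by simpa [commBit] using ha) (congrArg Subtype.val c)]

theorem comm_zp {x y : ↥C0} (hx : x ∈ Q0) (hy : y ∈ Q0) {M N : IMat} (hxM : El (x : ↥Co0) M)
    (hyN : El (y : ↥Co0) N) {a : ZMod 2} (ha : commBit M N a = true) : x * y = zp Z0 a * (y * x) := by
  rcases two_cases a with rfl | rfl
  · rw [zp, if_pos rfl, one_mul]
    exact C0_prod hxM hyN hyN hxM (by simpa [commBit] using ha)
  · rw [zp, if_neg one_ne_zero]
    exact (comm_cases hx hy).resolve_left fun c =>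
      hxM.prod_ne hyN hyN hxM (by simpa [commBit] using ha) (congrArg Subtype.val c)

theorem sq_zp {x : ↥C0} (hx : x ∈ Q0) {M : IMat} (hxM : El (x : ↥Co0) M) {a : ZMod 2}
    (ha : sqBit M a = true) : x * x = zp Z0 a := by
  have h1 : El (((1 : ↥C0)) : ↥Co0) idM := el_one
  rcases two_cases a with rfl | rfl
  · rw [zp, if_pos rfl, C0_prod hxM hxM h1 h1 (by simpa [sqBit] using ha), one_mul]
  · rw [zp, if_neg one_ne_zero]
    exact (sq_cases hx).resolve_left fun c =>
      hxM.prod_ne hxM h1 h1 (by simpa [sqBit] using ha) (congrArg Subtype.val (c.trans (one_mul 1).symm))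

/-! ### codes -/

/-- a vector from a code -/
def vecB {ι : Type} (bit : ι → ℕ) (c : ℕ) : ι → ZMod 2 := fun i => if Nat.testBit c (bit i) then 1 else 0

/-- a matrix from codes of its columns -/
def matF {ι : Type} (bit : ι → ℕ) (cols : List ℕ) (i j : ι) : ZMod 2 := vecB bit (cols.getD (bit j) 0) i

/-- the matrix with these entries -/
def matB {ι : Type} (bit : ι → ℕ) (cols : List ℕ) : Matrix ι ι (ZMod 2) := Matrix.of (matF bit cols)

/-- the positions in dimension eight -/
def bit8 : Ix → ℕ := Sum.elim (fun i => i.1) (fun i => 4 + i.1)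

theorem vecB_xor {ι : Type} (bit : ι → ℕ) (a b : ℕ) : vecB bit (a ^^^ b) = vecB bit a + vecB bit b := by
  funext i
  simp only [vecB, Nat.testBit_xor, Pi.add_apply]
  cases Nat.testBit a (bit i) <;> cases Nat.testBit b (bit i) <;> simp <;> rfl

/-- the form on codes -/
def q8 (c : ℕ) : Bool :=
  xor (xor (Nat.testBit c 0 && Nat.testBit c 4) (Nat.testBit c 1 && Nat.testBit c 5))
    (xor (Nat.testBit c 2 && Nat.testBit c 6) (Nat.testBit c 3 && Nat.testBit c 7))

theorem q8_spec (c : ℕ) : quadFormPlus 4 (ZMod 2) (vecB bit8 c) = if q8 c then 1 else 0 := by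
  simp only [quadFormPlus, Fin.sum_univ_four, vecB, bit8, Sum.elim_inl, Sum.elim_inr, q8,
    show ((0 : Fin 4) : ℕ) = 0 from rfl, show ((1 : Fin 4) : ℕ) = 1 from rfl,
    show ((2 : Fin 4) : ℕ) = 2 from rfl, show ((3 : Fin 4) : ℕ) = 3 from rfl]
  have hm : ∀ x y : Bool, (if x = true then (1 : ZMod 2) else 0) * (if y = true then 1 else 0) =
      if (x && y) = true then 1 else 0 := by decide
  have ha : ∀ x y : Bool, (if x = true then (1 : ZMod 2) else 0) + (if y = true then 1 else 0) =
      if (xor x y) = true then 1 else 0 := by decide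
  simp only [hm, ha, Bool.xor_assoc]

/-! ### the upper chain -/

/-- iterates of a table -/
def pwT (tab : List ℕ) : ℕ → ℕ → List ℕ
  | 0, _ => []
  | k + 1, b => b :: pwT tab k (tab.getD b 0)

/-- candidates for the image of a base point -/
def cand (tab : List ℕ) (m : ℕ) (W : List ℕ) (b : ℕ) : List ℕ :=
  (List.range 256).filter fun u =>
    (List.zip (pwT tab m u) (pwT tab m b)).all fun x =>
      ((0 :: W).all fun w => q8 (x.1 ^^^ w) == q8 (x.2 ^^^ w)) &&
        (List.zip (pwT tab m u) (pwT tab m b)).all fun y => q8 (x.1 ^^^ y.1) == q8 (x.2 ^^^ y.2)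

/-- the levels -/
def levels (tab : List ℕ) (m : ℕ) : List ℕ → List ℕ → List (ℕ × List ℕ) × List ℕ
  | W, [] => ([], W)
  | W, b :: bs => ((b, cand tab m W b) :: (levels tab m (W ++ pwT tab m b) bs).1,
      (levels tab m (W ++ pwT tab m b) bs).2)

/-- the permutations coming from the centraliser of a matrix -/
noncomputable def cenPerm (x : ↥(isometryGroup (ZMod 2) (quadFormPlus 4 (ZMod 2)))) :
    ↥(Subgroup.centralizer ({x} : Set ↥(isometryGroup (ZMod 2) (quadFormPlus 4 (ZMod 2))))) →*
      Equiv.Perm V8 :=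
  vecPerm.comp ((isometryGroup (ZMod 2) (quadFormPlus 4 (ZMod 2))).subtype.comp (Subgroup.subtype _))

theorem cenPerm_injective (x : ↥(isometryGroup (ZMod 2) (quadFormPlus 4 (ZMod 2)))) :
    Function.Injective (cenPerm x) := fun _ _ h => Subtype.ext (Subtype.ext (vecPerm_injective h))

theorem cenPerm_add (x : ↥(isometryGroup (ZMod 2) (quadFormPlus 4 (ZMod 2))))
    (g : ↥(Subgroup.centralizer ({x} : Set ↥(isometryGroup (ZMod 2) (quadFormPlus 4 (ZMod 2)))))) (v w : V8) :
    cenPerm x g (v + w) = cenPerm x g v + cenPerm x g w := by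
  simp only [cenPerm, MonoidHom.comp_apply, vecPerm_apply, Matrix.mulVec_add]

theorem vec8_surj : ∀ v : V8, ∃ c, c < 256 ∧ vecB bit8 c = v := by decide +kernel

theorem unit8 : ∀ j : Ix, vecB bit8 (2 ^ bit8 j) = eu j := by decide +kernel

theorem pwT_spec {tab : List ℕ} {A : Matrix Ix Ix (ZMod 2)}
    (htab : ∀ c, c < 256 → Matrix.mulVec A (vecB bit8 c) = vecB bit8 (tab.getD c 0))
    (hlt : ∀ c, c < 256 → tab.getD c 0 < 256) (f : Equiv.Perm V8) (hf : ∀ v, f (Matrix.mulVec A v) = Matrix.mulVec A (f v)) :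
    ∀ (m u b : ℕ), u < 256 → b < 256 → f (vecB bit8 b) = vecB bit8 u →
      ∀ x ∈ List.zip (pwT tab m u) (pwT tab m b), f (vecB bit8 x.2) = vecB bit8 x.1
  | 0, _, _, _, _, _, x, hx => by simp [pwT] at hx
  | m + 1, u, b, hu, hb, h, x, hx => by
    simp only [pwT, List.zip_cons_cons, List.mem_cons] at hx
    rcases hx with rfl | hx
    · exact h
    · exact pwT_spec htab hlt f hf m _ _ (hlt u hu) (hlt b hb)
        (by rw [← htab b hb, hf, h, htab u hu]) x hx

theorem pwT_fix {tab : List ℕ} {A : Matrix Ix Ix (ZMod 2)}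
    (htab : ∀ c, c < 256 → Matrix.mulVec A (vecB bit8 c) = vecB bit8 (tab.getD c 0))
    (hlt : ∀ c, c < 256 → tab.getD c 0 < 256) (f : Equiv.Perm V8) (hf : ∀ v, f (Matrix.mulVec A v) = Matrix.mulVec A (f v)) :
    ∀ (m b : ℕ), b < 256 → f (vecB bit8 b) = vecB bit8 b →
      ∀ w ∈ pwT tab m b, f (vecB bit8 w) = vecB bit8 w
  | 0, _, _, _, w, hw => by simp [pwT] at hw
  | m + 1, b, hb, h, w, hw => by
    simp only [pwT, List.mem_cons] at hw
    rcases hw with rfl | hw
    · exact h
    · exact pwT_fix htab hlt f hf m _ (hlt b hb) (by rw [← htab b hb, hf, h]) w hw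

theorem up_levels {tab : List ℕ} {A : Matrix Ix Ix (ZMod 2)} {x : ↥(isometryGroup (ZMod 2) (quadFormPlus 4 (ZMod 2)))}
    (hA : ((x.1 : Matrix.GeneralLinearGroup Ix (ZMod 2)) : Matrix Ix Ix (ZMod 2)) = A)
    (htab : ∀ c, c < 256 → Matrix.mulVec A (vecB bit8 c) = vecB bit8 (tab.getD c 0))
    (hlt : ∀ c, c < 256 → tab.getD c 0 < 256) (m : ℕ) :
    ∀ (bs W : List ℕ) (K : Subgroup (Equiv.Perm V8)), K ≤ (cenPerm x).range →
      (∀ b ∈ bs, b < 256) → (∀ f ∈ K, ∀ w ∈ W, f (vecB bit8 w) = vecB bit8 w) →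
      (∀ j : Ix, ∃ l : List ℕ, (∀ i ∈ l, i < (levels tab m W bs).2.length) ∧
        (l.map fun i => (levels tab m W bs).2.getD i 0).foldr (· ^^^ ·) 0 = 2 ^ bit8 j) →
      Up ((levels tab m W bs).1.map fun l => (vecB bit8 l.1, l.2.map (vecB bit8))) K
  | [], W, K, hK, _, hW, hspan => by
    show K = ⊥
    rw [eq_bot_iff]
    intro f hf
    obtain ⟨g, rfl⟩ := hK hf
    rw [Subgroup.mem_bot]
    have hfix : ∀ j : Ix, cenPerm x g (eu j) = eu j := by
      intro j
      obtain ⟨l, hl, e⟩ := hspan j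
      rw [← unit8, ← e]
      clear e
      induction l with
      | nil =>
        show Matrix.mulVec _ (vecB bit8 0) = vecB bit8 0
        have : vecB bit8 0 = 0 := by funext i; simp [vecB]
        rw [this, Matrix.mulVec_zero]
      | cons i l ih =>
        simp only [List.map_cons, List.foldr_cons, vecB_xor]
        have h1 := hW _ hf ((levels tab m W []).2.getD i 0) (by
          rw [List.getD_eq_getElem _ _ (hl i (by simp))]
          exact List.getElem_mem _)
        have h2 := ih (fun k hk => hl k (by simp [hk]))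
        rw [cenPerm_add]
        exact congrArg₂ (· + ·) h1 h2
    ext1 v
    show Matrix.mulVec _ v = v
    rw [← Finset.univ_sum_single v, Matrix.mulVec_sum]
    refine Finset.sum_congr rfl fun j _ => ?_
    rcases two_cases (v j) with h | h <;> rw [h]
    · simp
    · exact hfix j
  | b :: bs, W, K, hK, hb, hW, hspan => by
    refine ⟨fun f hf => ?_, ?_⟩
    · obtain ⟨g, rfl⟩ := hK hf
      obtain ⟨u, hu, hgu⟩ := vec8_surj (cenPerm x g (vecB bit8 b))
      rw [← hgu]
      refine List.mem_map_of_mem (List.mem_filter.2 ⟨List.mem_range.2 hu, ?_⟩)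
      have hf' : ∀ v, cenPerm x g (Matrix.mulVec A v) = Matrix.mulVec A (cenPerm x g v) := by
        intro v
        have hc := congrArg (fun k : ↥(isometryGroup (ZMod 2) (quadFormPlus 4 (ZMod 2))) =>
          Matrix.mulVec ((k.1 : Matrix.GeneralLinearGroup Ix (ZMod 2)) : Matrix Ix Ix (ZMod 2)) v)
          (Subgroup.mem_centralizer_singleton_iff.1 g.2)
        simp only [Subgroup.coe_mul, Units.val_mul, ← Matrix.mulVec_mulVec, hA] at hc
        exact hc
      have h1 := fun y hy => pwT_spec htab hlt _ hf' m u b hu (hb b (by simp)) hgu.symm y hy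
      -- the form is preserved on a sum
      have key : ∀ s t s' t' : ℕ, cenPerm x g (vecB bit8 s') = vecB bit8 s → cenPerm x g (vecB bit8 t') = vecB bit8 t →
          (q8 (s ^^^ t) == q8 (s' ^^^ t')) = true := by
        intro s t s' t' h1 h2
        have hg := (g : ↥(isometryGroup (ZMod 2) (quadFormPlus 4 (ZMod 2)))).2 (vecB bit8 (s' ^^^ t'))
          (vecB bit8 (s' ^^^ t'))
        have e : cenPerm x g (vecB bit8 (s' ^^^ t')) = vecB bit8 (s ^^^ t) := by
          rw [vecB_xor, vecB_xor, cenPerm_add]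
          exact congrArg₂ (· + ·) h1 h2
        have h3 : quadFormPlus 4 (ZMod 2) (vecB bit8 (s ^^^ t)) = quadFormPlus 4 (ZMod 2) (vecB bit8 (s' ^^^ t')) := by
          rw [← e]; exact hg
        rw [q8_spec, q8_spec] at h3
        cases ha : q8 (s ^^^ t) <;> cases hb' : q8 (s' ^^^ t') <;> simp [ha, hb'] at h3 ⊢
      rw [List.all_eq_true]
      intro y hy
      rw [Bool.and_eq_true, List.all_eq_true, List.all_eq_true]
      refine ⟨fun w hw => key _ _ _ _ (h1 y hy) ?_, fun y' hy' => key _ _ _ _ (h1 y hy) (h1 y' hy')⟩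
      rcases List.mem_cons.1 hw with rfl | hw
      · show Matrix.mulVec _ (vecB bit8 0) = vecB bit8 0
        have : vecB bit8 0 = 0 := by funext i; simp [vecB]
        rw [this, Matrix.mulVec_zero]
      · exact hW _ hf w hw
    · refine up_levels hA htab hlt m bs _ _ (inf_le_left.trans hK) (fun c hc => hb c (by simp [hc])) ?_ hspan
      intro f hf w hw
      rcases List.mem_append.1 hw with hw | hw
      · exact hW f hf.1 w hw
      · obtain ⟨g, rfl⟩ := hK hf.1
        refine pwT_fix htab hlt _ (fun v => ?_) m b (hb b (by simp)) hf.2 w hw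
        have hc := congrArg (fun k : ↥(isometryGroup (ZMod 2) (quadFormPlus 4 (ZMod 2))) =>
          Matrix.mulVec ((k.1 : Matrix.GeneralLinearGroup Ix (ZMod 2)) : Matrix Ix Ix (ZMod 2)) v)
          (Subgroup.mem_centralizer_singleton_iff.1 g.2)
        simp only [Subgroup.coe_mul, Units.val_mul, ← Matrix.mulVec_mulVec, hA] at hc
        exact hc

/-- the columns of the matrix on the eight-dimensional space -/
def colsOK (M : IMat) (cols : List ℕ) : Bool :=
  decide (∀ i j : Ix, coord (fun p => lin M (bB j) p / 8) i = matF bit8 cols i j)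

theorem centralizer_bound {a : ↥C0} {M : IMat} (ha : El (a : ↥Co0) M) {cols tab bs : List ℕ} {m N : ℕ}
    (hcols : colsOK M cols = true)
    (htab : ∀ c, c < 256 → Matrix.mulVec (matB bit8 cols) (vecB bit8 c) = vecB bit8 (tab.getD c 0))
    (hlt : ∀ c, c < 256 → tab.getD c 0 < 256) (hbs : ∀ b ∈ bs, b < 256)
    (units : List (List ℕ))
    (hspan : ∀ j : Ix, (∀ i ∈ units.getD (bit8 j) [], i < (levels tab m [] bs).2.length) ∧
        ((units.getD (bit8 j) []).map fun i => (levels tab m [] bs).2.getD i 0).foldr (· ^^^ ·) 0 = 2 ^ bit8 j)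
    (hprod : ((levels tab m [] bs).1.map fun l => l.2.length).prod = N) :
    Nat.card ↥(Subgroup.centralizer ({phi a} : Set ↥(isometryGroup (ZMod 2) (quadFormPlus 4 (ZMod 2))))) ≤ N := by
  have hA : (((phi a).1 : Matrix.GeneralLinearGroup Ix (ZMod 2)) : Matrix Ix Ix (ZMod 2)) = matB bit8 cols := by
    have e := of_decide_eq_true hcols
    refine Matrix.ext fun i j => ?_
    rw [phi_val, show matB bit8 cols i j = matF bit8 cols i j from rfl, ← e i j, ← ha.act_eq (bB_mem j).1]
    rfl
  have h := Up.card_le _ _ (up_levels hA htab hlt m bs [] (cenPerm (phi a)).range le_rfl hbs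
    (fun f _ w hw => by simp at hw) fun j => ⟨_, hspan j⟩)
  rw [List.map_map] at h
  rw [Nat.card_congr (MonoidHom.ofInjective (cenPerm_injective (phi a))).toEquiv, ← hprod]
  refine h.trans (le_of_eq (congrArg List.prod (List.map_congr_left fun l _ => ?_)))
  simp

/-! ### the lower chain -/

variable {ι : Type} [Fintype ι] [DecidableEq ι]

/-- the certificate of the elements: columns, with the generator and the parent -/
def stepsOK (bit : ι → ℕ) (gens : List (List ℕ)) (els : List (List ℕ × ℕ × ℕ)) : Bool :=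
  decide (matB bit (els.getD 0 ([], 0, 0)).1 = 1) &&
    (List.range els.length).all fun k => k == 0 ||
      (decide ((els.getD k ([], 0, 0)).2.1 < gens.length) && decide ((els.getD k ([], 0, 0)).2.2 < k) &&
        decide (matB bit (els.getD k ([], 0, 0)).1 = matB bit (gens.getD (els.getD k ([], 0, 0)).2.1 []) *
            matB bit (els.getD (els.getD k ([], 0, 0)).2.2 ([], 0, 0)).1))

theorem Dat.steps_mem (D : Dat ι) (bit : ι → ℕ) (gens : List (List ℕ)) (els : List (List ℕ × ℕ × ℕ))
    (hg : ∀ k, k < gens.length → ∃ c : ↥D.C, D.sx.conjMat (c : ↥C0) = matB bit (gens.getD k []))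
    (h : stepsOK bit gens els = true) :
    ∀ k, k < els.length → ∃ c : ↥D.C, D.sx.conjMat (c : ↥C0) = matB bit (els.getD k ([], 0, 0)).1 := by
  simp only [stepsOK, Bool.and_eq_true, decide_eq_true_eq, List.all_eq_true, List.mem_range, Bool.or_eq_true,
    beq_iff_eq] at h
  intro k
  induction k using Nat.strong_induction_on with
  | _ k ih =>
    intro hk
    by_cases h0 : k = 0
    · subst h0
      refine ⟨1, ?_⟩
      rw [OneMemClass.coe_one, Sx.conjMat_one]
      exact h.1.symm
    · obtain ⟨⟨h1, h2⟩, h3⟩ := (h.2 k hk).resolve_left h0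
      obtain ⟨c, hc⟩ := hg _ h1
      obtain ⟨d, hd⟩ := ih _ h2 (h2.trans hk)
      refine ⟨c * d, ?_⟩
      rw [Subgroup.coe_mul, D.sx.conjMat_mul (D.norms _ c.2) (D.norms _ d.2), hc, hd]
      exact h3.symm

/-- the check of the levels -/
def lowOK (bit : ι → ℕ) (els : List (List ℕ × ℕ × ℕ)) : List (ℕ × List ℕ) → List ℕ → Bool
  | [], _ => true
  | l :: L, prev =>
    l.2.all (fun k => decide (k < els.length) &&
      prev.all fun b => decide (Matrix.mulVec (matB bit (els.getD k ([], 0, 0)).1) (vecB bit b) = vecB bit b)) &&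
    decide ((l.2.map fun k => Matrix.mulVec (matB bit (els.getD k ([], 0, 0)).1) (vecB bit l.1)).Nodup) &&
    lowOK bit els L (l.1 :: prev)

theorem Dat.range_ge (D : Dat ι) (bit : ι → ℕ) (gens : List (List ℕ)) (els : List (List ℕ × ℕ × ℕ))
    (hg : ∀ k, k < gens.length → ∃ c : ↥D.C, D.sx.conjMat (c : ↥C0) = matB bit (gens.getD k []))
    (h : stepsOK bit gens els = true) (L : List (ℕ × List ℕ)) (hL : lowOK bit els L [] = true) :
    (L.map fun l => l.2.length).prod ≤ Nat.card ↥D.act6.range := by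
  classical
  haveI := D.finite_C
  let emb : ↥(isometryGroup (ZMod 2) D.Qf) →* Equiv.Perm (ι → ZMod 2) :=
    vecPerm.comp (isometryGroup (ZMod 2) D.Qf).subtype
  have hinj : Function.Injective emb := fun _ _ e => Subtype.ext (vecPerm_injective e)
  let K := D.act6.range.map emb
  have hK : Nat.card ↥K = Nat.card ↥D.act6.range :=
    (Nat.card_congr (Subgroup.equivMapOfInjective _ emb hinj).toEquiv).symm
  choose f hf using D.steps_mem bit gens els hg h
  let P : ℕ → Equiv.Perm (ι → ZMod 2) := fun k => if hk : k < els.length then emb (D.act6 (f k hk)) else 1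
  have hP : ∀ k, k < els.length → P k ∈ K ∧
      ∀ v, P k v = Matrix.mulVec (matB bit (els.getD k ([], 0, 0)).1) v := by
    intro k hk
    refine ⟨?_, fun v => ?_⟩
    · simp only [P, dif_pos hk]; exact ⟨_, ⟨_, rfl⟩, rfl⟩
    · simp only [P, dif_pos hk]
      show Matrix.mulVec (D.sx.conjMat _) v = _
      rw [hf k hk]
  have key : ∀ (L : List (ℕ × List ℕ)) (prev : List ℕ) (J : Subgroup (Equiv.Perm (ι → ZMod 2))),
      lowOK bit els L prev = true →
      (∀ g ∈ K, (∀ b ∈ prev, g (vecB bit b) = vecB bit b) → g ∈ J) →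
      Low (L.map fun l => (vecB bit l.1, l.2.map P)) J := by
    intro L
    induction L with
    | nil => intro _ _ _ _; trivial
    | cons l L ih =>
      intro prev J hl hJ
      simp only [lowOK, Bool.and_eq_true, List.all_eq_true, decide_eq_true_eq] at hl
      obtain ⟨⟨h1, h2⟩, h3⟩ := hl
      refine ⟨fun g hg => ?_, ?_, ih (l.1 :: prev) _ h3 fun g hg hfix => ⟨hJ g hg fun b hb => hfix b (by simp [hb]),
        hfix l.1 (by simp)⟩⟩
      · obtain ⟨k, hk, rfl⟩ := List.mem_map.1 hg
        obtain ⟨hk1, hk2⟩ := h1 k hk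
        exact hJ _ (hP k hk1).1 fun b hb => ((hP k hk1).2 _).trans (hk2 b hb)
      · rw [List.map_map]
        convert h2 using 1
        exact List.map_congr_left fun k hk => (hP k (h1 k hk).1).2 _
  have := Low.le_card _ _ (key L [] K hL fun g hg _ => hg)
  rw [List.map_map, hK] at this
  refine le_trans (le_of_eq (congrArg List.prod (List.map_congr_left fun l _ => ?_))) this
  simp

theorem Dat.conjMat_check (D : Dat ι) {c : ↥C0} {Mc : IMat} (hc : El (c : ↥Co0) Mc) (Mi : ι → IMat)
    (Mq : ι → IMat) (hq : ∀ j, El ((D.q j : ↥C0) : ↥Co0) (Mq j)) (bit : ι → ℕ) (cols : List ℕ)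
    (hsim : ∀ j, prodEq Mc (Mq j) (Mi j) Mc = true)
    (hb : ∀ i j, commBit (Mi j) (Mq (D.δ i)) (matF bit cols i j) = true) :
    D.sx.conjMat c = matB bit cols := by
  refine Matrix.ext fun i j => ?_
  have himg : El ((c * D.q j * c⁻¹ : ↥C0) : ↥Co0) (Mi j) := hc.conj (hq j) (hsim j)
  exact himg.b_val (hq (D.δ i)) (hb i j)

end Cfsg.Agent.Spor.Co0Sec
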