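/-
Data for the section at an element of order 3.
-/
import Cfsg.Agent.Lib.Spor.Co0Sec.Checks

set_option autoImplicit false
set_option maxRecDepth 100000

namespace Cfsg.Agent.Spor.Co0Sec.Three

/-- the element -/
def MA : IMat :=
  [[-4, 4, 0, 0, 0, 0, 0, -4, 0, 0, 0, 0, -4, 0, 0, 0, 0, 0, 0, 0, 0, 0, 0, 0],
   [-4, -4, 0, 0, 0, 0, 0, 4, 0, 0, 0, 0, -4, 0, 0, 0, 0, 0, 0, 0, 0, 0, 0, 0],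
   [0, 0, -4, 4, 4, 0, 0, 0, 0, 0, 4, 0, 0, 0, 0, 0, 0, 0, 0, 0, 0, 0, 0, 0],
   [0, 0, -4, -4, -4, 0, 0, 0, 0, 0, 4, 0, 0, 0, 0, 0, 0, 0, 0, 0, 0, 0, 0, 0],
   [0, 0, -4, 4, -4, 0, 0, 0, 0, 0, -4, 0, 0, 0, 0, 0, 0, 0, 0, 0, 0, 0, 0, 0],
   [0, 0, 0, 0, 0, -4, 0, 0, 0, 0, 0, 0, 0, 0, 0, 0, 0, 4, 4, 0, 0, 4, 0, 0],
   [0, 0, 0, 0, 0, 0, -4, 0, 4, 0, 0, 0, 0, 0, 0, 0, -4, 0, 0, 0, 0, 0, -4, 0],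
   [4, -4, 0, 0, 0, 0, 0, -4, 0, 0, 0, 0, -4, 0, 0, 0, 0, 0, 0, 0, 0, 0, 0, 0],
   [0, 0, 0, 0, 0, 0, -4, 0, -4, 0, 0, 0, 0, 0, 0, 0, -4, 0, 0, 0, 0, 0, 4, 0],
   [0, 0, 0, 0, 0, 0, 0, 0, 0, -4, 0, -4, 0, 0, 0, 4, 0, 0, 0, -4, 0, 0, 0, 0],
   [0, 0, -4, -4, 4, 0, 0, 0, 0, 0, -4, 0, 0, 0, 0, 0, 0, 0, 0, 0, 0, 0, 0, 0],
   [0, 0, 0, 0, 0, 0, 0, 0, 0, 4, 0, -4, 0, 0, 0, 4, 0, 0, 0, 4, 0, 0, 0, 0],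
   [4, 4, 0, 0, 0, 0, 0, 4, 0, 0, 0, 0, -4, 0, 0, 0, 0, 0, 0, 0, 0, 0, 0, 0],
   [0, 0, 0, 0, 0, 0, 0, 0, 0, 0, 0, 0, 0, -4, 4, 0, 0, 0, 0, 0, -4, 0, 0, -4],
   [0, 0, 0, 0, 0, 0, 0, 0, 0, 0, 0, 0, 0, -4, -4, 0, 0, 0, 0, 0, -4, 0, 0, 4],
   [0, 0, 0, 0, 0, 0, 0, 0, 0, -4, 0, -4, 0, 0, 0, -4, 0, 0, 0, 4, 0, 0, 0, 0],
   [0, 0, 0, 0, 0, 0, 4, 0, 4, 0, 0, 0, 0, 0, 0, 0, -4, 0, 0, 0, 0, 0, 4, 0],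
   [0, 0, 0, 0, 0, -4, 0, 0, 0, 0, 0, 0, 0, 0, 0, 0, 0, -4, 4, 0, 0, -4, 0, 0],
   [0, 0, 0, 0, 0, -4, 0, 0, 0, 0, 0, 0, 0, 0, 0, 0, 0, -4, -4, 0, 0, 4, 0, 0],
   [0, 0, 0, 0, 0, 0, 0, 0, 0, 4, 0, -4, 0, 0, 0, -4, 0, 0, 0, -4, 0, 0, 0, 0],
   [0, 0, 0, 0, 0, 0, 0, 0, 0, 0, 0, 0, 0, 4, 4, 0, 0, 0, 0, 0, -4, 0, 0, 4],
   [0, 0, 0, 0, 0, -4, 0, 0, 0, 0, 0, 0, 0, 0, 0, 0, 0, 4, -4, 0, 0, -4, 0, 0],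
   [0, 0, 0, 0, 0, 0, 4, 0, -4, 0, 0, 0, 0, 0, 0, 0, -4, 0, 0, 0, 0, 0, -4, 0],
   [0, 0, 0, 0, 0, 0, 0, 0, 0, 0, 0, 0, 0, 4, -4, 0, 0, 0, 0, 0, -4, 0, 0, -4]]

/-- its square -/
def MA2 : IMat :=
  [[-4, -4, 0, 0, 0, 0, 0, 4, 0, 0, 0, 0, 4, 0, 0, 0, 0, 0, 0, 0, 0, 0, 0, 0],
   [4, -4, 0, 0, 0, 0, 0, -4, 0, 0, 0, 0, 4, 0, 0, 0, 0, 0, 0, 0, 0, 0, 0, 0],
   [0, 0, -4, -4, -4, 0, 0, 0, 0, 0, -4, 0, 0, 0, 0, 0, 0, 0, 0, 0, 0, 0, 0, 0],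
   [0, 0, 4, -4, 4, 0, 0, 0, 0, 0, -4, 0, 0, 0, 0, 0, 0, 0, 0, 0, 0, 0, 0, 0],
   [0, 0, 4, -4, -4, 0, 0, 0, 0, 0, 4, 0, 0, 0, 0, 0, 0, 0, 0, 0, 0, 0, 0, 0],
   [0, 0, 0, 0, 0, -4, 0, 0, 0, 0, 0, 0, 0, 0, 0, 0, 0, -4, -4, 0, 0, -4, 0, 0],
   [0, 0, 0, 0, 0, 0, -4, 0, -4, 0, 0, 0, 0, 0, 0, 0, 4, 0, 0, 0, 0, 0, 4, 0],
   [-4, 4, 0, 0, 0, 0, 0, -4, 0, 0, 0, 0, 4, 0, 0, 0, 0, 0, 0, 0, 0, 0, 0, 0],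
   [0, 0, 0, 0, 0, 0, 4, 0, -4, 0, 0, 0, 0, 0, 0, 0, 4, 0, 0, 0, 0, 0, -4, 0],
   [0, 0, 0, 0, 0, 0, 0, 0, 0, -4, 0, 4, 0, 0, 0, -4, 0, 0, 0, 4, 0, 0, 0, 0],
   [0, 0, 4, 4, -4, 0, 0, 0, 0, 0, -4, 0, 0, 0, 0, 0, 0, 0, 0, 0, 0, 0, 0, 0],
   [0, 0, 0, 0, 0, 0, 0, 0, 0, -4, 0, -4, 0, 0, 0, -4, 0, 0, 0, -4, 0, 0, 0, 0],
   [-4, -4, 0, 0, 0, 0, 0, -4, 0, 0, 0, 0, -4, 0, 0, 0, 0, 0, 0, 0, 0, 0, 0, 0],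
   [0, 0, 0, 0, 0, 0, 0, 0, 0, 0, 0, 0, 0, -4, -4, 0, 0, 0, 0, 0, 4, 0, 0, 4],
   [0, 0, 0, 0, 0, 0, 0, 0, 0, 0, 0, 0, 0, 4, -4, 0, 0, 0, 0, 0, 4, 0, 0, -4],
   [0, 0, 0, 0, 0, 0, 0, 0, 0, 4, 0, 4, 0, 0, 0, -4, 0, 0, 0, -4, 0, 0, 0, 0],
   [0, 0, 0, 0, 0, 0, -4, 0, -4, 0, 0, 0, 0, 0, 0, 0, -4, 0, 0, 0, 0, 0, -4, 0],
   [0, 0, 0, 0, 0, 4, 0, 0, 0, 0, 0, 0, 0, 0, 0, 0, 0, -4, -4, 0, 0, 4, 0, 0],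
   [0, 0, 0, 0, 0, 4, 0, 0, 0, 0, 0, 0, 0, 0, 0, 0, 0, 4, -4, 0, 0, -4, 0, 0],
   [0, 0, 0, 0, 0, 0, 0, 0, 0, -4, 0, 4, 0, 0, 0, 4, 0, 0, 0, -4, 0, 0, 0, 0],
   [0, 0, 0, 0, 0, 0, 0, 0, 0, 0, 0, 0, 0, -4, -4, 0, 0, 0, 0, 0, -4, 0, 0, -4],
   [0, 0, 0, 0, 0, 4, 0, 0, 0, 0, 0, 0, 0, 0, 0, 0, 0, -4, 4, 0, 0, -4, 0, 0],
   [0, 0, 0, 0, 0, 0, -4, 0, 4, 0, 0, 0, 0, 0, 0, 0, 4, 0, 0, 0, 0, 0, -4, 0],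
   [0, 0, 0, 0, 0, 0, 0, 0, 0, 0, 0, 0, 0, -4, 4, 0, 0, 0, 0, 0, 4, 0, 0, -4]]

/-- generators of its centraliser -/
def MG : List IMat :=
  [[[-2, -2, -6, 2, -2, 0, 0, 2, 0, 0, -2, 0, 2, 0, 0, 0, 0, 0, 0, 0, 0, 0, 0, 0],
   [-2, -2, 2, -6, -2, 0, 0, 2, 0, 0, -2, 0, 2, 0, 0, 0, 0, 0, 0, 0, 0, 0, 0, 0],
   [-2, -2, 2, 2, -2, 0, 0, 2, 0, 0, -2, 0, -6, 0, 0, 0, 0, 0, 0, 0, 0, 0, 0, 0],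
   [-2, -2, 2, 2, -2, 0, 0, -6, 0, 0, -2, 0, 2, 0, 0, 0, 0, 0, 0, 0, 0, 0, 0, 0],
   [2, -6, -2, -2, 2, 0, 0, -2, 0, 0, 2, 0, -2, 0, 0, 0, 0, 0, 0, 0, 0, 0, 0, 0],
   [0, 0, 0, 0, 0, 2, -2, 0, -2, 2, 0, 2, 0, -2, 2, 2, -2, 2, -2, 2, -2, -2, -2, 2],
   [0, 0, 0, 0, 0, 2, 2, 0, 2, 2, 0, 2, 0, 2, -2, 2, 2, 2, -2, 2, 2, -2, 2, -2],
   [-2, -2, 2, 2, 6, 0, 0, 2, 0, 0, -2, 0, 2, 0, 0, 0, 0, 0, 0, 0, 0, 0, 0, 0],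
   [0, 0, 0, 0, 0, -2, 2, 0, 2, 2, 0, -2, 0, 2, 2, -2, -2, 2, 2, 2, -2, -2, -2, -2],
   [0, 0, 0, 0, 0, 2, -2, 0, -2, -2, 0, -2, 0, 2, -2, -2, -2, 2, -2, -2, 2, -2, -2, -2],
   [-2, -2, 2, 2, -2, 0, 0, 2, 0, 0, 6, 0, 2, 0, 0, 0, 0, 0, 0, 0, 0, 0, 0, 0],
   [0, 0, 0, 0, 0, -2, 2, 0, -2, -2, 0, -2, 0, -2, -2, 2, -2, -2, -2, 2, -2, -2, 2, -2],
   [-6, 2, -2, -2, 2, 0, 0, -2, 0, 0, 2, 0, -2, 0, 0, 0, 0, 0, 0, 0, 0, 0, 0, 0],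
   [0, 0, 0, 0, 0, -2, 2, 0, -2, 2, 0, -2, 0, -2, 2, 2, 2, 2, -2, -2, 2, 2, -2, -2],
   [0, 0, 0, 0, 0, 2, 2, 0, 2, -2, 0, -2, 0, -2, 2, -2, 2, 2, -2, -2, -2, -2, 2, 2],
   [0, 0, 0, 0, 0, 2, 2, 0, -2, -2, 0, 2, 0, -2, 2, -2, 2, -2, 2, 2, 2, -2, -2, -2],
   [0, 0, 0, 0, 0, -2, 2, 0, -2, -2, 0, 2, 0, 2, -2, -2, 2, 2, -2, 2, -2, 2, -2, 2],
   [0, 0, 0, 0, 0, 2, -2, 0, 2, -2, 0, -2, 0, -2, -2, 2, 2, 2, 2, 2, -2, 2, -2, -2],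
   [0, 0, 0, 0, 0, -2, -2, 0, -2, 2, 0, -2, 0, -2, -2, -2, 2, 2, 2, 2, 2, -2, 2, 2],
   [0, 0, 0, 0, 0, 2, 2, 0, 2, 2, 0, -2, 0, -2, -2, -2, -2, -2, -2, 2, 2, 2, -2, 2],
   [0, 0, 0, 0, 0, 2, -2, 0, -2, 2, 0, -2, 0, 2, 2, -2, 2, -2, -2, 2, -2, 2, 2, -2],
   [0, 0, 0, 0, 0, 2, 2, 0, -2, 2, 0, -2, 0, 2, -2, 2, 2, -2, 2, -2, -2, -2, -2, 2],
   [0, 0, 0, 0, 0, -2, -2, 0, 2, 2, 0, 2, 0, -2, -2, -2, 2, -2, -2, -2, -2, -2, -2, -2],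
   [0, 0, 0, 0, 0, 2, 2, 0, -2, 2, 0, 2, 0, -2, -2, -2, -2, 2, 2, -2, -2, 2, 2, -2]],
  [[4, -4, 0, 0, -4, 0, 0, 0, 0, 0, 0, 0, -4, 0, 0, 0, 0, 0, 0, 0, 0, 0, 0, 0],
   [0, 0, -4, -4, 0, 0, 0, -4, 0, 0, 4, 0, 0, 0, 0, 0, 0, 0, 0, 0, 0, 0, 0, 0],
   [4, 4, 0, 0, 4, 0, 0, 0, 0, 0, 0, 0, -4, 0, 0, 0, 0, 0, 0, 0, 0, 0, 0, 0],
   [-4, 4, 0, 0, -4, 0, 0, 0, 0, 0, 0, 0, -4, 0, 0, 0, 0, 0, 0, 0, 0, 0, 0, 0],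
   [0, 0, -4, 4, 0, 0, 0, -4, 0, 0, -4, 0, 0, 0, 0, 0, 0, 0, 0, 0, 0, 0, 0, 0],
   [0, 0, 0, 0, 0, 0, -4, 0, 0, 4, 0, 0, 0, 0, 0, 0, 0, -4, 0, 0, 0, 0, 0, -4],
   [0, 0, 0, 0, 0, 0, 0, 0, 4, 0, 0, 0, 0, 4, 0, 0, 0, 0, 0, -4, 0, 4, 0, 0],
   [0, 0, -4, -4, 0, 0, 0, 4, 0, 0, -4, 0, 0, 0, 0, 0, 0, 0, 0, 0, 0, 0, 0, 0],
   [0, 0, 0, 0, 0, 0, 0, 0, 0, 0, 0, 0, 0, 0, 0, 4, -4, 0, -4, 0, -4, 0, 0, 0],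
   [0, 0, 0, 0, 0, 0, 4, 0, 0, 4, 0, 0, 0, 0, 0, 0, 0, 4, 0, 0, 0, 0, 0, -4],
   [-4, -4, 0, 0, 4, 0, 0, 0, 0, 0, 0, 0, -4, 0, 0, 0, 0, 0, 0, 0, 0, 0, 0, 0],
   [0, 0, 0, 0, 0, 0, 0, 0, 0, 0, 0, 0, 0, 0, 0, -4, 4, 0, -4, 0, -4, 0, 0, 0],
   [0, 0, -4, 4, 0, 0, 0, 4, 0, 0, 4, 0, 0, 0, 0, 0, 0, 0, 0, 0, 0, 0, 0, 0],
   [0, 0, 0, 0, 0, 0, -4, 0, 0, 4, 0, 0, 0, 0, 0, 0, 0, 4, 0, 0, 0, 0, 0, 4],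
   [0, 0, 0, 0, 0, 0, 0, 0, -4, 0, 0, 0, 0, 4, 0, 0, 0, 0, 0, -4, 0, -4, 0, 0],
   [0, 0, 0, 0, 0, 0, 0, 0, 4, 0, 0, 0, 0, -4, 0, 0, 0, 0, 0, -4, 0, -4, 0, 0],
   [0, 0, 0, 0, 0, 0, 4, 0, 0, 4, 0, 0, 0, 0, 0, 0, 0, -4, 0, 0, 0, 0, 0, 4],
   [0, 0, 0, 0, 0, 0, 0, 0, 0, 0, 0, 0, 0, 0, 0, 4, 4, 0, -4, 0, 4, 0, 0, 0],
   [0, 0, 0, 0, 0, 4, 0, 0, 0, 0, 0, -4, 0, 0, 4, 0, 0, 0, 0, 0, 0, 0, 4, 0],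
   [0, 0, 0, 0, 0, 4, 0, 0, 0, 0, 0, 4, 0, 0, -4, 0, 0, 0, 0, 0, 0, 0, 4, 0],
   [0, 0, 0, 0, 0, 0, 0, 0, 0, 0, 0, 0, 0, 0, 0, -4, -4, 0, -4, 0, 4, 0, 0, 0],
   [0, 0, 0, 0, 0, 0, 0, 0, -4, 0, 0, 0, 0, -4, 0, 0, 0, 0, 0, -4, 0, 4, 0, 0],
   [0, 0, 0, 0, 0, 4, 0, 0, 0, 0, 0, -4, 0, 0, -4, 0, 0, 0, 0, 0, 0, 0, -4, 0],
   [0, 0, 0, 0, 0, 4, 0, 0, 0, 0, 0, 4, 0, 0, 4, 0, 0, 0, 0, 0, 0, 0, -4, 0]]]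

/-- the fusing element -/
def MF : IMat :=
  [[0, 0, 0, 0, 0, 0, 4, 0, 4, 0, 0, 4, 0, 0, 0, -4, 0, 0, 0, 0, 0, 0, 0, 0],
   [0, 0, 0, 0, 0, 0, -4, 0, 4, 0, 0, 4, 0, 0, 0, 4, 0, 0, 0, 0, 0, 0, 0, 0],
   [0, 0, 0, 0, 0, 0, 0, 0, 0, 0, 0, 0, 0, 0, -4, 0, 0, -4, 0, 0, 4, -4, 0, 0],
   [0, 0, 0, 0, 0, 0, 0, 0, 0, 0, 0, 0, 0, 0, 4, 0, 0, -4, 0, 0, 4, 4, 0, 0],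
   [0, 0, 0, 0, 0, 4, 0, 0, 0, 0, 0, 0, 0, 4, 0, 0, 0, 0, 4, 0, 0, 0, 0, -4],
   [0, 4, -4, 0, 0, 0, 0, 4, 0, 0, 4, 0, 0, 0, 0, 0, 0, 0, 0, 0, 0, 0, 0, 0],
   [0, 0, 0, 0, 0, 0, 0, 0, 0, 4, 0, 0, 0, 0, 0, 0, 4, 0, 0, 4, 0, 0, -4, 0],
   [0, 0, 0, 0, 0, 0, 0, 0, 0, -4, 0, 0, 0, 0, 0, 0, 4, 0, 0, 4, 0, 0, 4, 0],
   [0, 0, 0, 0, 0, 0, 4, 0, 4, 0, 0, -4, 0, 0, 0, 4, 0, 0, 0, 0, 0, 0, 0, 0],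
   [0, 0, 0, 0, 0, 4, 0, 0, 0, 0, 0, 0, 0, -4, 0, 0, 0, 0, -4, 0, 0, 0, 0, -4],
   [0, 0, 0, 0, 0, 4, 0, 0, 0, 0, 0, 0, 0, 4, 0, 0, 0, 0, -4, 0, 0, 0, 0, 4],
   [0, 0, 0, 0, 0, -4, 0, 0, 0, 0, 0, 0, 0, 4, 0, 0, 0, 0, -4, 0, 0, 0, 0, -4],
   [0, 0, 0, 0, 0, 0, 0, 0, 0, -4, 0, 0, 0, 0, 0, 0, 4, 0, 0, -4, 0, 0, -4, 0],
   [0, -4, 4, 0, 0, 0, 0, 4, 0, 0, 4, 0, 0, 0, 0, 0, 0, 0, 0, 0, 0, 0, 0, 0],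
   [0, -4, -4, 0, 0, 0, 0, -4, 0, 0, 4, 0, 0, 0, 0, 0, 0, 0, 0, 0, 0, 0, 0, 0],
   [0, 0, 0, 0, 0, 0, 0, 0, 0, 0, 0, 0, 0, 0, 4, 0, 0, 4, 0, 0, 4, -4, 0, 0],
   [0, 0, 0, 0, 0, 0, 4, 0, -4, 0, 0, 4, 0, 0, 0, 4, 0, 0, 0, 0, 0, 0, 0, 0],
   [-4, 0, 0, -4, 4, 0, 0, 0, 0, 0, 0, 0, -4, 0, 0, 0, 0, 0, 0, 0, 0, 0, 0, 0],
   [0, -4, -4, 0, 0, 0, 0, 4, 0, 0, -4, 0, 0, 0, 0, 0, 0, 0, 0, 0, 0, 0, 0, 0],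
   [0, 0, 0, 0, 0, 0, 0, 0, 0, 0, 0, 0, 0, 0, 4, 0, 0, -4, 0, 0, -4, -4, 0, 0],
   [-4, 0, 0, 4, -4, 0, 0, 0, 0, 0, 0, 0, -4, 0, 0, 0, 0, 0, 0, 0, 0, 0, 0, 0],
   [4, 0, 0, -4, -4, 0, 0, 0, 0, 0, 0, 0, -4, 0, 0, 0, 0, 0, 0, 0, 0, 0, 0, 0],
   [0, 0, 0, 0, 0, 0, 0, 0, 0, -4, 0, 0, 0, 0, 0, 0, -4, 0, 0, 4, 0, 0, -4, 0],
   [-4, 0, 0, -4, -4, 0, 0, 0, 0, 0, 0, 0, 4, 0, 0, 0, 0, 0, 0, 0, 0, 0, 0, 0]]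

/-- the first image -/
def MZ1 : IMat :=
  monoM [0, 1, 2, 3, 4, 5, 6, 7, 8, 9, 10, 11, 12, 13, 14, 15, 16, 17, 18, 19, 20, 21, 22, 23] 11952160

/-- the second image -/
def PZ : List ℕ × ℕ :=
  ([0, 1, 2, 3, 4, 13, 15, 7, 11, 16, 10, 8, 12, 5, 21, 6, 9, 20, 23, 22, 17, 14, 19, 18], 6842656)

/-- the element outside -/
def MU : IMat :=
  [[0, 0, 0, 0, -8, 0, 0, 0, 0, 0, 0, 0, 0, 0, 0, 0, 0, 0, 0, 0, 0, 0, 0, 0],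
   [0, 0, 0, 0, 0, 0, 0, 0, 0, 0, 8, 0, 0, 0, 0, 0, 0, 0, 0, 0, 0, 0, 0, 0],
   [0, 0, 0, 0, 0, 0, 0, -8, 0, 0, 0, 0, 0, 0, 0, 0, 0, 0, 0, 0, 0, 0, 0, 0],
   [0, 0, 0, 0, 0, 0, 0, 0, 0, 0, 0, 0, 8, 0, 0, 0, 0, 0, 0, 0, 0, 0, 0, 0],
   [-8, 0, 0, 0, 0, 0, 0, 0, 0, 0, 0, 0, 0, 0, 0, 0, 0, 0, 0, 0, 0, 0, 0, 0],
   [0, 0, 0, 0, 0, 8, 0, 0, 0, 0, 0, 0, 0, 0, 0, 0, 0, 0, 0, 0, 0, 0, 0, 0],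
   [0, 0, 0, 0, 0, 0, 0, 0, 0, 0, 0, 0, 0, 0, 0, -8, 0, 0, 0, 0, 0, 0, 0, 0],
   [0, 0, -8, 0, 0, 0, 0, 0, 0, 0, 0, 0, 0, 0, 0, 0, 0, 0, 0, 0, 0, 0, 0, 0],
   [0, 0, 0, 0, 0, 0, 0, 0, 0, 0, 0, 8, 0, 0, 0, 0, 0, 0, 0, 0, 0, 0, 0, 0],
   [0, 0, 0, 0, 0, 0, 0, 0, 0, 0, 0, 0, 0, 0, 0, 0, -8, 0, 0, 0, 0, 0, 0, 0],
   [0, 8, 0, 0, 0, 0, 0, 0, 0, 0, 0, 0, 0, 0, 0, 0, 0, 0, 0, 0, 0, 0, 0, 0],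
   [0, 0, 0, 0, 0, 0, 0, 0, 8, 0, 0, 0, 0, 0, 0, 0, 0, 0, 0, 0, 0, 0, 0, 0],
   [0, 0, 0, 8, 0, 0, 0, 0, 0, 0, 0, 0, 0, 0, 0, 0, 0, 0, 0, 0, 0, 0, 0, 0],
   [0, 0, 0, 0, 0, 0, 0, 0, 0, 0, 0, 0, 0, 8, 0, 0, 0, 0, 0, 0, 0, 0, 0, 0],
   [0, 0, 0, 0, 0, 0, 0, 0, 0, 0, 0, 0, 0, 0, 8, 0, 0, 0, 0, 0, 0, 0, 0, 0],
   [0, 0, 0, 0, 0, 0, -8, 0, 0, 0, 0, 0, 0, 0, 0, 0, 0, 0, 0, 0, 0, 0, 0, 0],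
   [0, 0, 0, 0, 0, 0, 0, 0, 0, -8, 0, 0, 0, 0, 0, 0, 0, 0, 0, 0, 0, 0, 0, 0],
   [0, 0, 0, 0, 0, 0, 0, 0, 0, 0, 0, 0, 0, 0, 0, 0, 0, 8, 0, 0, 0, 0, 0, 0],
   [0, 0, 0, 0, 0, 0, 0, 0, 0, 0, 0, 0, 0, 0, 0, 0, 0, 0, 8, 0, 0, 0, 0, 0],
   [0, 0, 0, 0, 0, 0, 0, 0, 0, 0, 0, 0, 0, 0, 0, 0, 0, 0, 0, 0, 0, 0, 8, 0],
   [0, 0, 0, 0, 0, 0, 0, 0, 0, 0, 0, 0, 0, 0, 0, 0, 0, 0, 0, 0, 8, 0, 0, 0],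
   [0, 0, 0, 0, 0, 0, 0, 0, 0, 0, 0, 0, 0, 0, 0, 0, 0, 0, 0, 0, 0, 8, 0, 0],
   [0, 0, 0, 0, 0, 0, 0, 0, 0, 0, 0, 0, 0, 0, 0, 0, 0, 0, 0, 8, 0, 0, 0, 0],
   [0, 0, 0, 0, 0, 0, 0, 0, 0, 0, 0, 0, 0, 0, 0, 0, 0, 0, 0, 0, 0, 0, 0, 8]]

/-- images under the element outside -/
def MUI : List IMat :=
  [monoM [0, 1, 2, 3, 4, 15, 13, 7, 23, 21, 10, 18, 12, 6, 16, 5, 14, 19, 11, 17, 22, 9, 20, 8] 7612992,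
  monoM [0, 1, 2, 3, 4, 13, 15, 7, 11, 16, 10, 8, 12, 5, 21, 6, 9, 20, 23, 22, 17, 14, 19, 18] 9929280,
  monoM [0, 1, 2, 3, 4, 11, 23, 7, 13, 17, 10, 5, 12, 8, 22, 18, 20, 9, 15, 21, 16, 19, 14, 6] 0,
  monoM [0, 1, 2, 3, 4, 5, 6, 7, 8, 9, 10, 11, 12, 13, 14, 15, 16, 17, 18, 19, 20, 21, 22, 23] 3050016,
  monoM [0, 1, 2, 3, 4, 18, 8, 7, 6, 19, 10, 15, 12, 23, 20, 11, 22, 21, 5, 9, 14, 17, 16, 13] 4038912,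
  monoM [0, 1, 2, 3, 4, 19, 20, 7, 14, 18, 10, 21, 12, 22, 8, 17, 23, 15, 9, 5, 6, 11, 13, 16] 8077824]

/-- the basis -/
def PQ : List (List ℕ × ℕ) :=
  [([0, 1, 2, 3, 4, 6, 5, 7, 18, 14, 10, 23, 12, 15, 9, 13, 21, 22, 8, 20, 19, 16, 17, 11], 1852256), ([0, 1, 2, 3, 4, 13, 15, 7, 11, 16, 10, 8, 12, 5, 21, 6, 9, 20, 23, 22, 17, 14, 19, 18], 9929280), ([0, 1, 2, 3, 4, 8, 18, 7, 5, 20, 10, 13, 12, 11, 19, 23, 17, 16, 6, 14, 9, 22, 21, 15], 9929280), ([0, 1, 2, 3, 4, 5, 6, 7, 8, 9, 10, 11, 12, 13, 14, 15, 16, 17, 18, 19, 20, 21, 22, 23], 6750560), ([0, 1, 2, 3, 4, 18, 8, 7, 6, 19, 10, 15, 12, 23, 20, 11, 22, 21, 5, 9, 14, 17, 16, 13], 4038912), ([0, 1, 2, 3, 4, 22, 17, 7, 21, 23, 10, 14, 12, 19, 11, 20, 18,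 6, 16, 13, 15, 8, 5, 9], 15515712)]

/-- images of the basis -/
def MI : List (List IMat) :=
  [[monoM [0, 1, 2, 3, 4, 13, 15, 7, 11, 16, 10, 8, 12, 5, 21, 6, 9, 20, 23, 22, 17, 14, 19, 18] 2220640, monoM [0, 1, 2, 3, 4, 15, 13, 7, 23, 21, 10, 18, 12, 6, 16, 5, 14, 19, 11, 17, 22, 9, 20, 8] 5939296, monoM [0, 1, 2, 3, 4, 8, 18, 7, 5, 20, 10, 13, 12, 11, 19, 23, 17, 16, 6, 14, 9, 22, 21, 15] 9929280, monoM [0, 1, 2, 3, 4, 9, 14, 7, 20, 5, 10, 17, 12, 16, 6, 21, 13, 11, 19, 18, 8, 15, 23, 22] 2220640, monoM [0, 1, 2, 3, 4, 22, 17, 7, 21, 23, 10, 14, 12, 19, 11, 20, 18, 6, 16, 13, 15, 8, 5, 9] 9158944, monoM [0, 1, 2, 3, 4, 14, 9, 7, 19, 6, 10, 22, 12, 21, 5, 16, 15, 23, 20, 8, 18, 13, 11, 17] 15515712],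
  [monoM [0, 1, 2, 3, 4, 22, 17, 7, 21, 23, 10, 14, 12, 19, 11, 20, 18, 6, 16, 13, 15, 8, 5, 9] 10832640, monoM [0, 1, 2, 3, 4, 11, 23, 7, 13, 17, 10, 5, 12, 8, 22, 18, 20, 9, 15, 21, 16, 19, 14, 6] 3050016, monoM [0, 1, 2, 3, 4, 20, 19, 7, 9, 8, 10, 16, 12, 17, 18, 22, 11, 13, 14, 6, 5, 23, 15, 21] 11952160, monoM [0, 1, 2, 3, 4, 9, 14, 7, 20, 5, 10, 17, 12, 16, 6, 21, 13, 11, 19, 18, 8, 15, 23, 22] 14551296, monoM [0, 1, 2, 3, 4, 6, 5, 7, 18, 14, 10, 23, 12, 15, 9, 13, 21, 22, 8, 20, 19, 16, 17, 11] 13443616, monoM [0, 1, 2, 3, 4, 13, 15, 7, 11, 16, 10, 8, 12, 5, 21, 6, 9, 20, 23, 22, 17, 14, 19, 18] 1009728]]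

/-- representatives -/
def PR : List (List ℕ × ℕ) :=
  [([0, 1, 2, 3, 4, 5, 6, 7, 8, 9, 10, 11, 12, 13, 14, 15, 16, 17, 18, 19, 20, 21, 22, 23], 0), ([0, 1, 2, 3, 4, 5, 6, 7, 8, 9, 10, 11, 12, 13, 14, 15, 16, 17, 18, 19, 20, 21, 22, 23], 1009728), ([0, 1, 2, 3, 4, 5, 6, 7, 8, 9, 10, 11, 12, 13, 14, 15, 16, 17, 18, 19, 20, 21, 22, 23], 1256224), ([0, 1, 2, 3, 4, 5, 6, 7, 8, 9, 10, 11, 12, 13, 14, 15, 16, 17, 18, 19, 20, 21, 22, 23], 1852256)]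

/-- conjugates of the element -/
def MC : List IMat :=
  [[[-4, 4, 0, 0, 0, 0, 0, -4, 0, 0, 0, 0, -4, 0, 0, 0, 0, 0, 0, 0, 0, 0, 0, 0],
   [-4, -4, 0, 0, 0, 0, 0, 4, 0, 0, 0, 0, -4, 0, 0, 0, 0, 0, 0, 0, 0, 0, 0, 0],
   [0, 0, -4, 4, 4, 0, 0, 0, 0, 0, 4, 0, 0, 0, 0, 0, 0, 0, 0, 0, 0, 0, 0, 0],
   [0, 0, -4, -4, -4, 0, 0, 0, 0, 0, 4, 0, 0, 0, 0, 0, 0, 0, 0, 0, 0, 0, 0, 0],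
   [0, 0, -4, 4, -4, 0, 0, 0, 0, 0, -4, 0, 0, 0, 0, 0, 0, 0, 0, 0, 0, 0, 0, 0],
   [0, 0, 0, 0, 0, -4, 0, 0, 0, 0, 0, 0, 0, 0, 0, 0, 0, 4, 4, 0, 0, 4, 0, 0],
   [0, 0, 0, 0, 0, 0, -4, 0, 4, 0, 0, 0, 0, 0, 0, 0, -4, 0, 0, 0, 0, 0, -4, 0],
   [4, -4, 0, 0, 0, 0, 0, -4, 0, 0, 0, 0, -4, 0, 0, 0, 0, 0, 0, 0, 0, 0, 0, 0],
   [0, 0, 0, 0, 0, 0, -4, 0, -4, 0, 0, 0, 0, 0, 0, 0, -4, 0, 0, 0, 0, 0, 4, 0],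
   [0, 0, 0, 0, 0, 0, 0, 0, 0, -4, 0, -4, 0, 0, 0, 4, 0, 0, 0, -4, 0, 0, 0, 0],
   [0, 0, -4, -4, 4, 0, 0, 0, 0, 0, -4, 0, 0, 0, 0, 0, 0, 0, 0, 0, 0, 0, 0, 0],
   [0, 0, 0, 0, 0, 0, 0, 0, 0, 4, 0, -4, 0, 0, 0, 4, 0, 0, 0, 4, 0, 0, 0, 0],
   [4, 4, 0, 0, 0, 0, 0, 4, 0, 0, 0, 0, -4, 0, 0, 0, 0, 0, 0, 0, 0, 0, 0, 0],
   [0, 0, 0, 0, 0, 0, 0, 0, 0, 0, 0, 0, 0, -4, 4, 0, 0, 0, 0, 0, -4, 0, 0, -4],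
   [0, 0, 0, 0, 0, 0, 0, 0, 0, 0, 0, 0, 0, -4, -4, 0, 0, 0, 0, 0, -4, 0, 0, 4],
   [0, 0, 0, 0, 0, 0, 0, 0, 0, -4, 0, -4, 0, 0, 0, -4, 0, 0, 0, 4, 0, 0, 0, 0],
   [0, 0, 0, 0, 0, 0, 4, 0, 4, 0, 0, 0, 0, 0, 0, 0, -4, 0, 0, 0, 0, 0, 4, 0],
   [0, 0, 0, 0, 0, -4, 0, 0, 0, 0, 0, 0, 0, 0, 0, 0, 0, -4, 4, 0, 0, -4, 0, 0],
   [0, 0, 0, 0, 0, -4, 0, 0, 0, 0, 0, 0, 0, 0, 0, 0, 0, -4, -4, 0, 0, 4, 0, 0],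
   [0, 0, 0, 0, 0, 0, 0, 0, 0, 4, 0, -4, 0, 0, 0, -4, 0, 0, 0, -4, 0, 0, 0, 0],
   [0, 0, 0, 0, 0, 0, 0, 0, 0, 0, 0, 0, 0, 4, 4, 0, 0, 0, 0, 0, -4, 0, 0, 4],
   [0, 0, 0, 0, 0, -4, 0, 0, 0, 0, 0, 0, 0, 0, 0, 0, 0, 4, -4, 0, 0, -4, 0, 0],
   [0, 0, 0, 0, 0, 0, 4, 0, -4, 0, 0, 0, 0, 0, 0, 0, -4, 0, 0, 0, 0, 0, -4, 0],
   [0, 0, 0, 0, 0, 0, 0, 0, 0, 0, 0, 0, 0, 4, -4, 0, 0, 0, 0, 0, -4, 0, 0, -4]],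
  [[-4, 4, 0, 0, 0, 0, 0, -4, 0, 0, 0, 0, -4, 0, 0, 0, 0, 0, 0, 0, 0, 0, 0, 0],
   [-4, -4, 0, 0, 0, 0, 0, 4, 0, 0, 0, 0, -4, 0, 0, 0, 0, 0, 0, 0, 0, 0, 0, 0],
   [0, 0, -4, 4, 4, 0, 0, 0, 0, 0, 4, 0, 0, 0, 0, 0, 0, 0, 0, 0, 0, 0, 0, 0],
   [0, 0, -4, -4, -4, 0, 0, 0, 0, 0, 4, 0, 0, 0, 0, 0, 0, 0, 0, 0, 0, 0, 0, 0],
   [0, 0, -4, 4, -4, 0, 0, 0, 0, 0, -4, 0, 0, 0, 0, 0, 0, 0, 0, 0, 0, 0, 0, 0],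
   [0, 0, 0, 0, 0, -4, 0, 0, 0, 0, 0, 0, 0, 0, 0, 0, 0, -4, -4, 0, 0, 4, 0, 0],
   [0, 0, 0, 0, 0, 0, -4, 0, -4, 0, 0, 0, 0, 0, 0, 0, -4, 0, 0, 0, 0, 0, 4, 0],
   [4, -4, 0, 0, 0, 0, 0, -4, 0, 0, 0, 0, -4, 0, 0, 0, 0, 0, 0, 0, 0, 0, 0, 0],
   [0, 0, 0, 0, 0, 0, 4, 0, -4, 0, 0, 0, 0, 0, 0, 0, 4, 0, 0, 0, 0, 0, 4, 0],
   [0, 0, 0, 0, 0, 0, 0, 0, 0, -4, 0, 4, 0, 0, 0, 4, 0, 0, 0, 4, 0, 0, 0, 0],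
   [0, 0, -4, -4, 4, 0, 0, 0, 0, 0, -4, 0, 0, 0, 0, 0, 0, 0, 0, 0, 0, 0, 0, 0],
   [0, 0, 0, 0, 0, 0, 0, 0, 0, -4, 0, -4, 0, 0, 0, -4, 0, 0, 0, 4, 0, 0, 0, 0],
   [4, 4, 0, 0, 0, 0, 0, 4, 0, 0, 0, 0, -4, 0, 0, 0, 0, 0, 0, 0, 0, 0, 0, 0],
   [0, 0, 0, 0, 0, 0, 0, 0, 0, 0, 0, 0, 0, -4, 4, 0, 0, 0, 0, 0, 4, 0, 0, 4],
   [0, 0, 0, 0, 0, 0, 0, 0, 0, 0, 0, 0, 0, -4, -4, 0, 0, 0, 0, 0, 4, 0, 0, -4],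
   [0, 0, 0, 0, 0, 0, 0, 0, 0, -4, 0, 4, 0, 0, 0, -4, 0, 0, 0, -4, 0, 0, 0, 0],
   [0, 0, 0, 0, 0, 0, 4, 0, -4, 0, 0, 0, 0, 0, 0, 0, -4, 0, 0, 0, 0, 0, -4, 0],
   [0, 0, 0, 0, 0, 4, 0, 0, 0, 0, 0, 0, 0, 0, 0, 0, 0, -4, 4, 0, 0, 4, 0, 0],
   [0, 0, 0, 0, 0, 4, 0, 0, 0, 0, 0, 0, 0, 0, 0, 0, 0, -4, -4, 0, 0, -4, 0, 0],
   [0, 0, 0, 0, 0, 0, 0, 0, 0, -4, 0, -4, 0, 0, 0, 4, 0, 0, 0, -4, 0, 0, 0, 0],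
   [0, 0, 0, 0, 0, 0, 0, 0, 0, 0, 0, 0, 0, -4, -4, 0, 0, 0, 0, 0, -4, 0, 0, 4],
   [0, 0, 0, 0, 0, -4, 0, 0, 0, 0, 0, 0, 0, 0, 0, 0, 0, -4, 4, 0, 0, -4, 0, 0],
   [0, 0, 0, 0, 0, 0, -4, 0, -4, 0, 0, 0, 0, 0, 0, 0, 4, 0, 0, 0, 0, 0, -4, 0],
   [0, 0, 0, 0, 0, 0, 0, 0, 0, 0, 0, 0, 0, -4, 4, 0, 0, 0, 0, 0, -4, 0, 0, -4]],
  [[-4, 4, 0, 0, 0, 0, 0, -4, 0, 0, 0, 0, -4, 0, 0, 0, 0, 0, 0, 0, 0, 0, 0, 0],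
   [-4, -4, 0, 0, 0, 0, 0, 4, 0, 0, 0, 0, -4, 0, 0, 0, 0, 0, 0, 0, 0, 0, 0, 0],
   [0, 0, -4, 4, 4, 0, 0, 0, 0, 0, 4, 0, 0, 0, 0, 0, 0, 0, 0, 0, 0, 0, 0, 0],
   [0, 0, -4, -4, -4, 0, 0, 0, 0, 0, 4, 0, 0, 0, 0, 0, 0, 0, 0, 0, 0, 0, 0, 0],
   [0, 0, -4, 4, -4, 0, 0, 0, 0, 0, -4, 0, 0, 0, 0, 0, 0, 0, 0, 0, 0, 0, 0, 0],
   [0, 0, 0, 0, 0, -4, 0, 0, 0, 0, 0, 0, 0, 0, 0, 0, 0, 4, -4, 0, 0, -4, 0, 0],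
   [0, 0, 0, 0, 0, 0, -4, 0, -4, 0, 0, 0, 0, 0, 0, 0, 4, 0, 0, 0, 0, 0, -4, 0],
   [4, -4, 0, 0, 0, 0, 0, -4, 0, 0, 0, 0, -4, 0, 0, 0, 0, 0, 0, 0, 0, 0, 0, 0],
   [0, 0, 0, 0, 0, 0, 4, 0, -4, 0, 0, 0, 0, 0, 0, 0, -4, 0, 0, 0, 0, 0, -4, 0],
   [0, 0, 0, 0, 0, 0, 0, 0, 0, -4, 0, -4, 0, 0, 0, -4, 0, 0, 0, 4, 0, 0, 0, 0],
   [0, 0, -4, -4, 4, 0, 0, 0, 0, 0, -4, 0, 0, 0, 0, 0, 0, 0, 0, 0, 0, 0, 0, 0],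
   [0, 0, 0, 0, 0, 0, 0, 0, 0, 4, 0, -4, 0, 0, 0, -4, 0, 0, 0, -4, 0, 0, 0, 0],
   [4, 4, 0, 0, 0, 0, 0, 4, 0, 0, 0, 0, -4, 0, 0, 0, 0, 0, 0, 0, 0, 0, 0, 0],
   [0, 0, 0, 0, 0, 0, 0, 0, 0, 0, 0, 0, 0, -4, -4, 0, 0, 0, 0, 0, -4, 0, 0, 4],
   [0, 0, 0, 0, 0, 0, 0, 0, 0, 0, 0, 0, 0, 4, -4, 0, 0, 0, 0, 0, 4, 0, 0, 4],
   [0, 0, 0, 0, 0, 0, 0, 0, 0, 4, 0, 4, 0, 0, 0, -4, 0, 0, 0, 4, 0, 0, 0, 0],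
   [0, 0, 0, 0, 0, 0, -4, 0, 4, 0, 0, 0, 0, 0, 0, 0, -4, 0, 0, 0, 0, 0, -4, 0],
   [0, 0, 0, 0, 0, -4, 0, 0, 0, 0, 0, 0, 0, 0, 0, 0, 0, -4, -4, 0, 0, 4, 0, 0],
   [0, 0, 0, 0, 0, 4, 0, 0, 0, 0, 0, 0, 0, 0, 0, 0, 0, 4, -4, 0, 0, 4, 0, 0],
   [0, 0, 0, 0, 0, 0, 0, 0, 0, -4, 0, 4, 0, 0, 0, -4, 0, 0, 0, -4, 0, 0, 0, 0],
   [0, 0, 0, 0, 0, 0, 0, 0, 0, 0, 0, 0, 0, 4, -4, 0, 0, 0, 0, 0, -4, 0, 0, -4],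
   [0, 0, 0, 0, 0, 4, 0, 0, 0, 0, 0, 0, 0, 0, 0, 0, 0, -4, -4, 0, 0, -4, 0, 0],
   [0, 0, 0, 0, 0, 0, 4, 0, 4, 0, 0, 0, 0, 0, 0, 0, 4, 0, 0, 0, 0, 0, -4, 0],
   [0, 0, 0, 0, 0, 0, 0, 0, 0, 0, 0, 0, 0, -4, -4, 0, 0, 0, 0, 0, 4, 0, 0, -4]],
  [[-4, 4, 0, 0, 0, 0, 0, -4, 0, 0, 0, 0, -4, 0, 0, 0, 0, 0, 0, 0, 0, 0, 0, 0],
   [-4, -4, 0, 0, 0, 0, 0, 4, 0, 0, 0, 0, -4, 0, 0, 0, 0, 0, 0, 0, 0, 0, 0, 0],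
   [0, 0, -4, 4, 4, 0, 0, 0, 0, 0, 4, 0, 0, 0, 0, 0, 0, 0, 0, 0, 0, 0, 0, 0],
   [0, 0, -4, -4, -4, 0, 0, 0, 0, 0, 4, 0, 0, 0, 0, 0, 0, 0, 0, 0, 0, 0, 0, 0],
   [0, 0, -4, 4, -4, 0, 0, 0, 0, 0, -4, 0, 0, 0, 0, 0, 0, 0, 0, 0, 0, 0, 0, 0],
   [0, 0, 0, 0, 0, -4, 0, 0, 0, 0, 0, 0, 0, 0, 0, 0, 0, -4, 4, 0, 0, -4, 0, 0],
   [0, 0, 0, 0, 0, 0, -4, 0, 4, 0, 0, 0, 0, 0, 0, 0, 4, 0, 0, 0, 0, 0, 4, 0],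
   [4, -4, 0, 0, 0, 0, 0, -4, 0, 0, 0, 0, -4, 0, 0, 0, 0, 0, 0, 0, 0, 0, 0, 0],
   [0, 0, 0, 0, 0, 0, -4, 0, -4, 0, 0, 0, 0, 0, 0, 0, 4, 0, 0, 0, 0, 0, -4, 0],
   [0, 0, 0, 0, 0, 0, 0, 0, 0, -4, 0, 4, 0, 0, 0, -4, 0, 0, 0, -4, 0, 0, 0, 0],
   [0, 0, -4, -4, 4, 0, 0, 0, 0, 0, -4, 0, 0, 0, 0, 0, 0, 0, 0, 0, 0, 0, 0, 0],
   [0, 0, 0, 0, 0, 0, 0, 0, 0, -4, 0, -4, 0, 0, 0, 4, 0, 0, 0, -4, 0, 0, 0, 0],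
   [4, 4, 0, 0, 0, 0, 0, 4, 0, 0, 0, 0, -4, 0, 0, 0, 0, 0, 0, 0, 0, 0, 0, 0],
   [0, 0, 0, 0, 0, 0, 0, 0, 0, 0, 0, 0, 0, -4, -4, 0, 0, 0, 0, 0, 4, 0, 0, -4],
   [0, 0, 0, 0, 0, 0, 0, 0, 0, 0, 0, 0, 0, 4, -4, 0, 0, 0, 0, 0, -4, 0, 0, -4],
   [0, 0, 0, 0, 0, 0, 0, 0, 0, 4, 0, -4, 0, 0, 0, -4, 0, 0, 0, -4, 0, 0, 0, 0],
   [0, 0, 0, 0, 0, 0, -4, 0, -4, 0, 0, 0, 0, 0, 0, 0, -4, 0, 0, 0, 0, 0, 4, 0],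
   [0, 0, 0, 0, 0, 4, 0, 0, 0, 0, 0, 0, 0, 0, 0, 0, 0, -4, -4, 0, 0, -4, 0, 0],
   [0, 0, 0, 0, 0, -4, 0, 0, 0, 0, 0, 0, 0, 0, 0, 0, 0, 4, -4, 0, 0, -4, 0, 0],
   [0, 0, 0, 0, 0, 0, 0, 0, 0, 4, 0, 4, 0, 0, 0, 4, 0, 0, 0, -4, 0, 0, 0, 0],
   [0, 0, 0, 0, 0, 0, 0, 0, 0, 0, 0, 0, 0, -4, 4, 0, 0, 0, 0, 0, -4, 0, 0, -4],
   [0, 0, 0, 0, 0, 4, 0, 0, 0, 0, 0, 0, 0, 0, 0, 0, 0, 4, 4, 0, 0, -4, 0, 0],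
   [0, 0, 0, 0, 0, 0, -4, 0, 4, 0, 0, 0, 0, 0, 0, 0, -4, 0, 0, 0, 0, 0, -4, 0],
   [0, 0, 0, 0, 0, 0, 0, 0, 0, 0, 0, 0, 0, 4, 4, 0, 0, 0, 0, 0, 4, 0, 0, -4]]]

/-- the columns -/
def cols : List ℕ :=
  [64, 74, 176, 67, 148, 128, 65, 160]

/-- the table -/
def tab : List ℕ :=
  [0, 64, 74, 10, 176, 240, 250, 186, 67, 3, 9, 73, 243, 179, 185, 249, 148, 212, 222, 158, 36, 100, 110, 46, 215, 151, 157, 221, 103, 39, 45, 109, 128, 192, 202, 138, 48, 112, 122, 58, 195, 131, 137, 201, 115, 51, 57, 121, 20, 84, 94, 30, 164, 228, 238, 174, 87, 23, 29, 93, 231, 167, 173, 237, 65, 1, 11, 75, 241, 177, 187, 251, 2, 66, 72, 8, 178, 242, 248, 184, 213, 149, 159, 223, 101, 37, 47, 111, 150, 214, 220, 156, 38, 102, 108,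 44, 193, 129, 139, 203, 113, 49, 59, 123, 130, 194, 200, 136, 50, 114, 120, 56, 85, 21, 31, 95, 229, 165, 175, 239, 22, 86, 92, 28, 166, 230, 236, 172, 160, 224, 234, 170, 16, 80, 90, 26, 227, 163, 169, 233, 83, 19, 25, 89, 52, 116, 126, 62, 132, 196, 206, 142, 119, 55, 61, 125, 199, 135, 141, 205, 32, 96, 106, 42, 144, 208, 218, 154, 99, 35, 41, 105, 211, 147, 153, 217, 180, 244, 254, 190, 4, 68, 78, 14, 247, 183, 189, 253, 71, 7, 13, 77, 225, 161, 171, 235, 81, 17, 27, 91, 162, 226, 232, 168, 18, 82, 88, 24, 117, 53, 63, 127, 197, 133, 143, 207, 54, 118, 124, 60, 134, 198, 204, 140, 97, 33, 43, 107, 209, 145, 155, 219, 34, 98, 104, 40, 146, 210, 216, 152, 245, 181, 191, 255, 69, 5, 15, 79, 182, 246,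 252, 188, 6, 70, 76, 12]

/-- base of the upper chain -/
def base8 : List ℕ :=
  [163, 39, 238, 177]

/-- units of the upper chain -/
def units8 : List (List ℕ) :=
  [[1, 2, 3, 4, 5], [0, 1, 3, 6], [0, 3, 5, 6, 7], [0, 4, 6, 7], [1, 3], [3, 4, 7], [0, 1, 2, 4], [2, 3, 5, 6, 7]]

/-- columns of the generators -/
def gcols : List (List ℕ) :=
  [[23, 30, 4, 58, 40, 38], [53, 27, 62, 58, 28, 10]]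

/-- columns of the element outside -/
def ucols : List ℕ :=
  [3, 2, 6, 29, 16, 34]

/-- elements -/
def els : List (List ℕ × ℕ × ℕ) :=
  [([1, 2, 4, 8, 16, 32], 0, 0), ([23, 30, 4, 58, 40, 38], 0, 0), ([53, 27, 62, 58, 28, 10], 1, 0), ([37, 8, 4, 42, 28, 60], 0, 1), ([12, 3, 62, 55, 48, 47], 1, 1), ([29, 27, 46, 42, 22, 36], 0, 2), ([29, 8, 9, 55, 24, 33], 1, 2), ([53, 58, 4, 2, 22, 48], 0, 3), ([1, 58, 62, 43, 24, 18], 1, 3), ([62, 9, 46, 3, 14, 17], 0, 4), ([4, 46, 9, 6, 22, 32], 1, 4), ([1, 27, 6, 2, 50, 34], 0, 5), ([45, 8, 21, 43, 57, 52], 1, 5), ([1, 58, 45, 3, 18, 49], 0, 6), ([45, 58, 15, 6, 38, 63], 1, 6), ([29, 42, 4, 30, 50, 14], 0, 7), ([29, 55, 62, 27, 57, 22], 1, 7), ([23, 42, 46, 21, 18,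 54], 0, 8), ([53, 55, 9, 30, 38, 7], 1, 8), ([46, 45, 6, 9, 32, 63], 0, 9), ([9, 15, 21, 46, 31, 41], 1, 9), ([62, 21, 15, 37, 57, 10], 1, 10), ([23, 27, 26, 30, 16, 56], 0, 11), ([53, 8, 37, 27, 13, 17], 1, 11), ([15, 58, 59, 21, 35, 10], 0, 12), ([23, 42, 15, 9, 54, 25], 0, 13), ([53, 55, 59, 46, 7, 35], 1, 13), ([15, 42, 55, 26, 60, 57], 0, 14), ([59, 55, 42, 37, 47, 60], 1, 14), ([45, 43, 62, 3, 13, 31], 1, 15), ([1, 3, 46, 27, 35, 50], 0, 16), ([45, 6, 9, 8, 25, 57], 1, 16), ([37, 2, 6, 59, 54, 20], 0, 17), ([12, 43, 21, 23, 7, 51], 1, 17), ([29, 3, 45, 8, 60, 13], 0, 18), ([29, 6, 15, 3, 47, 16], 1, 18), ([6, 15, 26, 45, 38, 57], 0, 19), ([21, 59, 37, 15, 10, 60], 1, 19), ([45, 55, 59, 6, 31, 11],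 0, 20), ([46, 59, 55, 53, 35, 36], 0, 21), ([12, 8, 61, 3, 28, 44], 1, 22), ([29, 58, 1, 8, 49, 41], 1, 23), ([42, 55, 2, 23, 36, 33], 1, 24), ([37, 2, 55, 45, 20, 5], 0, 25), ([12, 43, 42, 15, 51, 19], 1, 25), ([29, 6, 2, 21, 16, 36], 1, 26), ([55, 2, 3, 12, 48, 35], 0, 27), ([61, 3, 2, 53, 17, 48], 0, 28), ([2, 6, 43, 1, 32, 18], 1, 28), ([15, 21, 46, 9, 41, 31], 0, 29), ([59, 30, 9, 46, 49, 54], 1, 29), ([23, 9, 6, 27, 47, 16], 0, 30), ([15, 26, 45, 58, 5, 35], 0, 31), ([59, 37, 15, 58, 19, 25], 1, 31), ([53, 30, 26, 61, 20, 44], 0, 32), ([4, 30, 23, 12, 16, 56], 1, 33), ([1, 9, 15, 58, 48, 41], 0, 34), ([45, 46, 59, 58, 18, 49], 1, 34), ([1, 26, 55, 9, 17, 40], 0, 35), ([45, 37, 42, 46, 32, 28], 1,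 35), ([26, 55, 12, 15, 60, 35], 0, 36), ([37, 42, 61, 59, 47, 25], 1, 36), ([59, 61, 53, 55, 36, 48], 0, 37), ([15, 3, 61, 26, 31, 51], 0, 38), ([59, 6, 2, 37, 54, 20], 1, 38), ([6, 61, 3, 29, 47, 34], 0, 39), ([62, 58, 39, 9, 22, 24], 0, 40), ([4, 58, 39, 46, 24, 14], 1, 40), ([1, 42, 23, 58, 25, 11], 0, 41), ([2, 3, 30, 37, 34, 49], 0, 42), ([43, 6, 27, 12, 52, 63], 1, 42), ([45, 37, 27, 23, 28, 52], 1, 45), ([6, 27, 46, 4, 22, 36], 1, 46), ([39, 46, 27, 29, 41, 22], 1, 47), ([27, 37, 30, 53, 10, 7], 1, 48), ([42, 23, 21, 15, 5, 54], 1, 49), ([2, 3, 15, 21, 35, 51], 1, 50), ([12, 15, 37, 8, 32, 28], 1, 51), ([55, 12, 15, 42, 19, 47], 0, 52), ([61, 53, 55, 42, 33, 5], 0, 53), ([29, 8, 12, 39, 44, 24],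 0, 54), ([29, 3, 61, 39, 34, 14], 1, 54), ([62, 3, 12, 4, 28, 44], 1, 55), ([23, 45, 55, 42, 14, 11], 0, 56), ([15, 6, 61, 42, 54, 25], 0, 57), ([23, 12, 3, 45, 63, 28], 0, 58), ([15, 53, 2, 6, 38, 22], 0, 59), ([53, 2, 39, 61, 17, 5], 0, 61), ([2, 39, 29, 6, 52, 22], 1, 62), ([55, 9, 39, 12, 31, 7], 0, 63), ([2, 37, 27, 1, 51, 34], 1, 64), ([37, 39, 46, 45, 32, 17], 1, 65), ([46, 42, 43, 45, 50, 18], 0, 66), ([62, 55, 26, 21, 38, 31], 1, 67), ([53, 43, 12, 55, 19, 20], 1, 68), ([30, 9, 8, 53, 56, 25], 0, 69), ([27, 46, 3, 1, 17, 35], 1, 69), ([21, 26, 27, 62, 10, 57], 0, 70), ([15, 53, 27, 37, 22, 10], 0, 71), ([59, 1, 8, 12, 24, 40], 1, 71), ([26, 27, 6, 4, 50, 34], 0, 72), ([37, 8, 21, 62, 57, 52],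 1, 72), ([26, 21, 8, 45, 5, 57], 1, 73), ([27, 53, 8, 29, 36, 13], 0, 74), ([2, 37, 59, 55, 19, 20], 0, 75), ([27, 46, 42, 23, 36, 56], 1, 76), ([4, 42, 1, 58, 10, 24], 1, 77), ([3, 62, 55, 2, 33, 17], 0, 78), ([39, 29, 3, 2, 49, 19], 0, 79), ([45, 58, 4, 26, 14, 38], 1, 80), ([45, 46, 39, 26, 17, 31], 1, 81), ([9, 46, 4, 62, 24, 14], 1, 82), ([12, 59, 6, 43, 31, 20], 1, 83), ([42, 37, 39, 43, 51, 19], 1, 84), ([37, 62, 9, 15, 57, 22], 0, 85), ([12, 4, 46, 59, 60, 24], 1, 85), ([55, 29, 30, 26, 60, 50], 0, 86), ([29, 27, 26, 39, 41, 11], 1, 87), ([30, 43, 1, 26, 10, 50], 0, 88), ([6, 15, 26, 4, 54, 16], 1, 89), ([27, 1, 8, 53, 56, 17], 1, 90), ([53, 43, 6, 15, 38, 63], 0, 91), ([21, 43, 30, 59, 13, 7],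 1, 92), ([46, 3, 12, 59, 60, 31], 0, 93), ([29, 30, 4, 6, 50, 34], 1, 94), ([3, 15, 58, 29, 44, 19], 1, 95), ([27, 6, 9, 23, 63, 47], 0, 96), ([23, 61, 8, 9, 33, 25], 1, 97), ([42, 29, 8, 1, 57, 33], 1, 98), ([61, 23, 58, 62, 18, 28], 0, 99), ([61, 8, 37, 62, 13, 17], 1, 100), ([1, 58, 23, 9, 25, 40], 1, 101), ([61, 23, 58, 59, 11, 25], 1, 102), ([27, 29, 58, 1, 34, 41], 0, 103), ([27, 1, 2, 6, 50, 34], 1, 104), ([62, 43, 53, 55, 33, 38], 1, 106), ([15, 42, 4, 12, 32, 60], 0, 109), ([59, 21, 26, 61, 41, 54], 1, 110), ([2, 53, 43, 21, 7, 33], 0, 113), ([4, 62, 21, 2, 18, 38], 1, 115), ([45, 8, 61, 26, 5, 20], 1, 117), ([37, 42, 61, 62, 51, 28], 1, 119), ([27, 23, 58, 29, 52, 63], 0, 120), ([59, 21, 8, 61,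 41, 13], 0, 122), ([21, 46, 4, 2, 18, 54], 1, 123), ([1, 8, 4, 26, 16, 56], 0, 124), ([8, 37, 15, 12, 60, 32], 1, 126), ([37, 39, 58, 45, 49, 5], 0, 127), ([43, 45, 58, 53, 25, 63], 1, 128), ([53, 55, 12, 15, 19, 48], 1, 131), ([39, 37, 42, 61, 51, 5], 0, 132), ([27, 1, 42, 23, 56, 11], 0, 133), ([27, 23, 30, 26, 16, 56], 0, 134), ([9, 30, 29, 6, 63, 47], 1, 135), ([55, 2, 4, 62, 38, 48], 0, 136), ([2, 23, 61, 39, 5, 51], 1, 137), ([27, 29, 30, 23, 16, 63], 1, 138), ([62, 9, 23, 27, 7, 47], 1, 139), ([53, 2, 39, 46, 7, 22], 0, 141), ([61, 59, 58, 39, 11, 41], 0, 143), ([23, 21, 62, 27, 7, 51], 1, 144), ([58, 53, 55, 62, 48, 38], 0, 146), ([1, 26, 55, 59, 35, 11], 1, 147), ([21, 15, 42, 29, 5, 57], 0, 148),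 ([29, 6, 4, 42, 50, 22], 1, 149), ([43, 53, 2, 39, 7, 19], 0, 150), ([8, 53, 43, 12, 44, 20], 1, 151), ([15, 3, 45, 37, 60, 32], 1, 153), ([3, 30, 4, 46, 60, 14], 0, 154), ([30, 37, 39, 43, 19, 7], 0, 155), ([9, 15, 12, 8, 16, 32], 1, 157), ([39, 61, 42, 43, 51, 11], 0, 159), ([12, 23, 9, 8, 16, 56], 1, 160), ([55, 29, 6, 9, 22, 47], 1, 161), ([59, 55, 2, 1, 19, 35], 0, 163), ([1, 26, 4, 2, 16, 50], 0, 164), ([30, 29, 27, 26, 16, 50], 1, 165), ([58, 29, 21, 62, 24, 44], 0, 166), ([42, 46, 59, 1, 18, 10], 1, 167), ([9, 8, 4, 6, 48, 32], 0, 168), ([3, 1, 26, 30, 50, 16], 1, 169), ([43, 39, 2, 21, 7, 51], 0, 171), ([3, 1, 26, 45, 50, 17], 0, 173), ([2, 6, 27, 53, 50, 36], 1, 174), ([42, 1, 59, 46, 18, 24],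 0, 177), ([43, 21, 2, 53, 7, 33], 1, 178), ([15, 58, 62, 37, 22, 10], 1, 179), ([9, 23, 12, 8, 16, 40], 0, 180), ([30, 26, 27, 23, 16, 56], 1, 181), ([9, 23, 12, 15, 16, 63], 0, 182), ([30, 26, 27, 29, 16, 34], 0, 183), ([43, 53, 2, 21, 7, 38], 1, 184), ([30, 23, 27, 29, 16, 63], 1, 185), ([55, 42, 46, 53, 50, 36], 0, 186), ([30, 29, 27, 23, 16, 47], 1, 191), ([3, 2, 6, 29, 16, 34], 0, 193)]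

/-- levels -/
def lev : List (ℕ × List ℕ) :=
  [(21, [0, 1, 2, 3, 4, 5, 6, 7, 9, 10, 11, 12, 13, 14, 15, 16, 19, 20, 22, 25, 26, 36, 40, 43, 45, 60, 61]), (5, [0, 32, 44, 73, 105, 107, 108, 111, 112, 114, 116, 118, 121, 125, 129, 130, 140, 142, 158, 162]), (33, [0, 145, 152, 156, 170, 172, 175, 176, 188, 189, 190, 194]), (1, [0, 187, 192, 195])]

/-- units of the orbit -/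
def unitsV : List (List ℕ) :=
  [[12], [4], [14], [19], [1, 15], [0, 11]]

end Cfsg.Agent.Spor.Co0Sec.Three
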