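/-
The section at an element of odd prime order: the centraliser of the involution, and simplicity.
-/
import Cfsg.Agent.Lib.Spor.Co0Sec.Dat
import Cfsg.Agent.Lib.Spor.LargeSimple
import Cfsg.Agent.Lib.Spor.LargeCriteria
import Cfsg.Agent.Lib.Fusion.WeakClosureFunctor

set_option autoImplicit false
set_option maxRecDepth 100000

namespace Cfsg.Agent.Spor.Co0Sec

open Cfsg Cfsg.Agent.Spor Cfsg.Agent.Spor.Co1Invol
open scoped commutatorElement

variable {ι : Type} [Fintype ι] [DecidableEq ι]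

/-- the further data -/
structure Sec (ι : Type) [Fintype ι] [DecidableEq ι] extends Dat ι where
  hlow : R ≤ Nat.card ↥toDat.act6.range
  hiso : Nat.card ↥(isometryGroup (ZMod 2) Qf) = 2 * R
  homega : Nat.card ↥(Omega (ZMod 2) Qf) = R
  hsimp : IsSimpleGroup ↥(Omega (ZMod 2) Qf)
  h3 : 3 ∣ R
  g : ↥Co0
  g_a : g * (a : ↥Co0) = (a : ↥Co0) * g
  z1 : ↥C0
  z1_mem : z1 ∈ toDat.P
  z1_eq : g * eps = (z1 : ↥Co0) * g
  z1_coord : toDat.sx.coord z1 ≠ 0
  z2 : ↥C0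
  z2_mem : z2 ∈ toDat.P
  z2_eq : eps * g = g * (z2 : ↥Co0)
  hspan : ∀ S : AddSubgroup (ι → ZMod 2), toDat.sx.coord z1 ∈ S →
    (∀ c : ↥toDat.C, ∀ v ∈ S, Matrix.mulVec (toDat.sx.conjMat (c : ↥C0)) v ∈ S) → S = ⊤
  x0 : ↥C0
  x0_mem : x0 ∈ toDat.P
  u0 : ↥C0
  u0_eq : g * (x0 : ↥Co0) = (u0 : ↥Co0) * g
  u0_ne : toDat.sx.conjMat u0 ≠ 1

namespace Sec

variable (E : Sec ι)

/-- the subgroup of odd prime order -/
noncomputable def A : Subgroup ↥Co0 := Subgroup.zpowers (E.a : ↥Co0)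

/-- its centraliser -/
noncomputable def CA : Subgroup ↥Co0 := Subgroup.centralizer (E.A : Set ↥Co0)

theorem mem_CA {c : ↥Co0} : c ∈ E.CA ↔ c * (E.a : ↥Co0) = (E.a : ↥Co0) * c := by
  rw [CA, A, Subgroup.mem_centralizer_iff]
  refine ⟨fun h => (h _ (Subgroup.mem_zpowers _)).symm, fun h y hy => ?_⟩
  obtain ⟨k, rfl⟩ := Subgroup.mem_zpowers_iff.1 hy
  exact ((show Commute c (E.a : ↥Co0) from h).zpow_right k).eq.symm

/-- the subgroup factored out -/
noncomputable def N0 : Subgroup ↥E.CA := (E.A ⊔ Subgroup.center ↥Co0).subgroupOf E.CA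

theorem N0_normal : E.N0.Normal := by
  refine ⟨fun x hx c => ?_⟩
  have hc : ∀ y ∈ E.A ⊔ Subgroup.center ↥Co0, (c : ↥Co0) * y = y * c := by
    intro y hy
    have hle : E.A ⊔ Subgroup.center ↥Co0 ≤ Subgroup.centralizer ({(c : ↥Co0)} : Set ↥Co0) := by
      refine sup_le ?_ (Subgroup.center_le_centralizer _)
      rw [A, Subgroup.zpowers_le, Subgroup.mem_centralizer_singleton_iff]
      exact (E.mem_CA.1 c.2).symm
    exact (Subgroup.mem_centralizer_singleton_iff.1 (hle hy)).symm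
  have : c * x * c⁻¹ = x := by
    rw [mul_inv_eq_iff_eq_mul]; exact Subtype.ext (hc _ hx)
  rwa [this]

theorem a_C0_pow (i : ℕ) : ((E.a ^ i : ↥C0) : ↥Co0) = (E.a : ↥Co0) ^ i := SubgroupClass.coe_pow _ _

theorem sgn_center (b : Bool) : ((sgnC b : ↥C0) : ↥Co0) ∈ Subgroup.center ↥Co0 := by
  cases b
  · simp [sgnC]
  · exact nEl_center

theorem mem_AZ {y : ↥Co0} (hy : y ∈ E.A ⊔ Subgroup.center ↥Co0) :
    ∃ (i : Fin E.p) (b : Bool), y = ((E.a ^ (i : ℕ) * sgnC b : ↥C0) : ↥Co0) := by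
  haveI : NeZero E.p := ⟨E.hp.pos.ne'⟩
  obtain ⟨u, hu, w, hw, rfl⟩ := Subgroup.mem_sup_of_normal_right.1 hy
  obtain ⟨k, rfl⟩ := Subgroup.mem_zpowers_iff.1 hu
  have hp : (E.a : ↥Co0) ^ E.p = 1 := by rw [← a_C0_pow, E.a_pow]; rfl
  refine ⟨⟨(k % (E.p : ℤ)).toNat, by
    have h1 := Int.emod_nonneg k (b := (E.p : ℤ)) (by simp [E.hp.pos.ne'])
    have h2 := Int.emod_lt_of_pos k (b := (E.p : ℤ)) (by simp [E.hp.pos])
    omega⟩, ?_⟩
  have hk : (E.a : ↥Co0) ^ k = (E.a : ↥Co0) ^ (k % (E.p : ℤ)).toNat := by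
    rw [← zpow_natCast, Int.toNat_of_nonneg (Int.emod_nonneg k (by simp [E.hp.pos.ne']))]
    exact zpow_eq_zpow_emod' k (by rw [hp])
  rcases center_two hw with rfl | rfl
  · exact ⟨false, by rw [Subgroup.coe_mul, a_C0_pow, hk]; rfl⟩
  · exact ⟨true, by rw [Subgroup.coe_mul, a_C0_pow, hk]; rfl⟩

theorem AZ_mem (i : ℕ) (b : Bool) : ((E.a ^ i * sgnC b : ↥C0) : ↥Co0) ∈ E.A ⊔ Subgroup.center ↥Co0 := by
  rw [Subgroup.coe_mul, a_C0_pow]
  exact mul_mem (Subgroup.mem_sup_left (pow_mem (Subgroup.mem_zpowers _) _))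
    (Subgroup.mem_sup_right (sgn_center b))

instance : E.N0.Normal := E.N0_normal

/-- the section -/
abbrev Q' : Type := ↥E.CA ⧸ E.N0

theorem C_CA {c : ↥C0} (hc : c ∈ E.toDat.C) : (c : ↥Co0) ∈ E.CA :=
  E.mem_CA.2 (congrArg Subtype.val (E.toDat.mem_C.1 hc)).symm

theorem eps_C : epsC ∈ E.toDat.C := E.toDat.mem_C.2 (Subtype.ext (mem_C0.1 E.a.2).symm)

/-- the lift of an element -/
noncomputable def lift0 : ↥E.toDat.C →* ↥E.CA :=
  MonoidHom.mk' (fun c => ⟨((c : ↥C0) : ↥Co0), E.C_CA c.2⟩) fun _ _ => rfl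

/-- the projection -/
noncomputable def mk0 : ↥E.toDat.C →* E.Q' := (QuotientGroup.mk' E.N0).comp E.lift0

/-- the involution -/
noncomputable def zS : E.Q' := E.mk0 ⟨epsC, E.eps_C⟩

theorem mk0_eq_one {c : ↥E.toDat.C} (h : E.mk0 c = 1) :
    ∃ (i : Fin E.p) (b : Bool), (c : ↥C0) = E.a ^ (i : ℕ) * sgnC b := by
  have h' : E.lift0 c ∈ E.N0 := (QuotientGroup.eq_one_iff _).1 h
  obtain ⟨i, b, e⟩ := E.mem_AZ (Subgroup.mem_subgroupOf.1 h')
  exact ⟨i, b, Subtype.ext e⟩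

theorem mk0_AZ (c : ↥E.toDat.C) (i : ℕ) (b : Bool) (h : (c : ↥C0) = E.a ^ i * sgnC b) : E.mk0 c = 1 := by
  refine (QuotientGroup.eq_one_iff _).2 (Subgroup.mem_subgroupOf.2 ?_)
  show ((c : ↥C0) : ↥Co0) ∈ _
  rw [h]; exact E.AZ_mem i b

/-- the elements of the two-group in the centraliser -/
noncomputable def PC : Subgroup ↥E.toDat.C := E.toDat.P.subgroupOf E.toDat.C

theorem P_sep {x : ↥C0} (hx : x ∈ E.toDat.P) {i : Fin E.p} {b : Bool} (h : x = E.a ^ (i : ℕ) * sgnC b) :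
    x = 1 := by
  haveI : NeZero E.p := ⟨E.hp.pos.ne'⟩
  have e : E.toDat.a ^ ((0 : Fin E.p) : ℕ) * (sgnC false * x) = E.a ^ (i : ℕ) * (sgnC b * 1) := by
    simp [sgnC] at h ⊢; exact h
  exact (E.toDat.pow_a_sep hx (one_mem _) e).2.2

theorem mk0_inj_P {x y : ↥E.toDat.C} (hx : x ∈ E.PC) (hy : y ∈ E.PC) (h : E.mk0 x = E.mk0 y) : x = y := by
  have h1 : E.mk0 (x⁻¹ * y) = 1 := by rw [map_mul, map_inv, h, inv_mul_cancel]
  obtain ⟨i, b, e⟩ := E.mk0_eq_one h1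
  exact inv_mul_eq_one.1 (Subtype.ext (E.P_sep (mul_mem (inv_mem hx) hy) e))

theorem mk0_comm (c : ↥E.toDat.C) : E.mk0 c * E.zS = E.zS * E.mk0 c := by
  rw [zS, ← map_mul, ← map_mul]
  exact congrArg E.mk0 (Subtype.ext (Subtype.ext (mem_C0.1 (c : ↥C0).2).symm))

/-- the map onto the centraliser of the involution -/
noncomputable def pi : ↥E.toDat.C →* ↥(Subgroup.centralizer ({E.zS} : Set E.Q')) :=
  E.mk0.codRestrict _ fun c => Subgroup.mem_centralizer_singleton_iff.2 (E.mk0_comm c)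

theorem pi_val (c : ↥E.toDat.C) : (E.pi c : E.Q') = E.mk0 c := rfl

theorem pi_surjective : Function.Surjective E.pi := by
  rintro ⟨s, hs⟩
  obtain ⟨c, rfl⟩ := QuotientGroup.mk_surjective s
  have h := Subgroup.mem_centralizer_singleton_iff.1 hs
  rw [zS, mk0, MonoidHom.comp_apply, QuotientGroup.mk'_apply, ← QuotientGroup.mk_mul, ← QuotientGroup.mk_mul,
    QuotientGroup.eq] at h
  obtain ⟨i, b, e⟩ := E.mem_AZ (Subgroup.mem_subgroupOf.1 h)
  set t : ↥C0 := E.a ^ (i : ℕ) * sgnC b with ht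
  change ((c : ↥Co0) * eps)⁻¹ * (eps * (c : ↥Co0)) = (t : ↥Co0) at e
  have e' : eps * (c : ↥Co0) = (c : ↥Co0) * eps * (t : ↥Co0) := inv_mul_eq_iff_eq_mul.1 e
  have htc : (t : ↥Co0) * c = c * t := by
    rw [ht, Subgroup.coe_mul, a_C0_pow, mul_assoc, ← Subgroup.mem_center_iff.1 (sgn_center b), ← mul_assoc,
      ← mul_assoc, ((show Commute (c : ↥Co0) (E.a : ↥Co0) from E.mem_CA.1 c.2).pow_right i).eq]
  have hte : (t : ↥Co0) * eps = eps * t := (mem_C0.1 t.2).symm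
  have hsq : (t : ↥Co0) * t = 1 := by
    have h2 : (c : ↥Co0) = c * ((t : ↥Co0) * t) := by
      calc (c : ↥Co0) = eps * eps * c := by rw [eps_sq, one_mul]
        _ = eps * (c * eps * t) := by rw [mul_assoc, e']
        _ = eps * c * (eps * t) := by simp only [mul_assoc]
        _ = c * eps * t * (eps * t) := by rw [e']
        _ = c * eps * ((t : ↥Co0) * eps) * t := by simp only [mul_assoc]
        _ = c * eps * (eps * t) * t := by rw [hte]
        _ = c * (eps * eps) * (t * t) := by simp only [mul_assoc]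
        _ = _ := by rw [eps_sq, mul_one]
    exact mul_eq_left.1 h2.symm
  have hi : (t : ↥C0) = sgnC b := by
    have h2 : E.a ^ ((i : ℕ) * 2) = 1 := by
      have h3 : t * t = 1 := Subtype.ext hsq
      rw [pow_mul, pow_two]
      calc E.a ^ (i : ℕ) * E.a ^ (i : ℕ) = E.a ^ (i : ℕ) * E.a ^ (i : ℕ) * (sgnC b * sgnC b) := by
            rw [sgnC_mul, Bool.xor_self]; simp [sgnC]
        _ = E.a ^ (i : ℕ) * (sgnC b * E.a ^ (i : ℕ)) * sgnC b := by
            rw [sgnC_cen b (E.a ^ (i : ℕ))]; simp only [mul_assoc]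
        _ = t * t := by rw [ht]; simp only [mul_assoc]
        _ = 1 := h3
    rw [← orderOf_dvd_iff_pow_eq_one, E.toDat.orderOf_a] at h2
    have hdi : E.p ∣ (i : ℕ) := (E.hp.dvd_mul.1 h2).resolve_right fun h =>
      E.hp2 ((Nat.prime_dvd_prime_iff_eq E.hp Nat.prime_two).1 h)
    rw [ht, Nat.eq_zero_of_dvd_of_lt hdi i.2, pow_zero, one_mul]
  rw [hi] at e'
  have hb : b = false := by
    cases b
    · rfl
    · exfalso
      refine conj_ne (g := (c : ↥Co0)) ?_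
      have e2 : eps * (c : ↥Co0) = (c : ↥Co0) * eps * nEl := e'
      rw [e2, ← Subgroup.mem_center_iff.1 nEl_center, mul_assoc _ nEl nEl,
        show nEl * nEl = 1 from congrArg Subtype.val nC_sq, mul_one]
  subst hb
  have hc : (c : ↥Co0) ∈ C0 := mem_C0.2 (by simpa [sgnC] using e')
  exact ⟨⟨⟨c, hc⟩, E.toDat.mem_C.2 (Subtype.ext (E.mem_CA.1 c.2).symm)⟩, Subtype.ext rfl⟩

theorem pi_a : E.pi ⟨E.a, E.toDat.a_mem⟩ = 1 :=
  Subtype.ext (E.mk0_AZ _ 1 false (by simp [sgnC]))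

theorem pi_sgn (b : Bool) : E.pi ⟨sgnC b, E.toDat.sgnC_mem b⟩ = 1 :=
  Subtype.ext (E.mk0_AZ _ 0 b (by simp))

/-- the two-group in the centraliser of the involution -/
noncomputable def QS : Subgroup ↥(Subgroup.centralizer ({E.zS} : Set E.Q')) := E.PC.map E.pi

instance PC_normal : E.PC.Normal := ⟨fun x hx c => by
  rw [PC, Subgroup.mem_subgroupOf] at hx ⊢
  exact E.toDat.norms (c : ↥C0) c.2 _ hx⟩

instance QS_normal : E.QS.Normal := Subgroup.Normal.map inferInstance _ E.pi_surjective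

theorem pi_inj_P {x y : ↥E.toDat.C} (hx : x ∈ E.PC) (hy : y ∈ E.PC) (h : E.pi x = E.pi y) : x = y :=
  E.mk0_inj_P hx hy (congrArg Subtype.val h)

/-- the two-group as a copy -/
noncomputable def QS_equiv : ↥E.toDat.P ≃ ↥E.QS :=
  Equiv.ofBijective (fun x => ⟨E.pi ⟨(x : ↥C0), x.2.2⟩, ⟨_, x.2, rfl⟩⟩)
    ⟨fun x y e => Subtype.ext (congrArg (fun c : ↥E.toDat.C => (c : ↥C0))
      (E.pi_inj_P (x := ⟨(x : ↥C0), x.2.2⟩) (y := ⟨(y : ↥C0), y.2.2⟩) x.2 y.2 (congrArg Subtype.val e))),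
      by rintro ⟨_, c, hc, rfl⟩; exact ⟨⟨(c : ↥C0), hc⟩, rfl⟩⟩

theorem card_QS : Nat.card ↥E.QS = 2 ^ (Fintype.card ι + 1) := by
  rw [← Nat.card_congr E.QS_equiv, E.toDat.card_P_eq]

theorem Z_C : Z0 ∈ E.toDat.C := E.toDat.sx.z_mem.2

theorem pi_Z : E.pi ⟨Z0, E.Z_C⟩ = E.pi ⟨epsC, E.eps_C⟩ := by
  rw [show (⟨Z0, E.Z_C⟩ : ↥E.toDat.C) = ⟨nC, E.toDat.nC_mem⟩ * ⟨epsC, E.eps_C⟩ from rfl, map_mul,
    show (⟨nC, E.toDat.nC_mem⟩ : ↥E.toDat.C) = ⟨sgnC true, E.toDat.sgnC_mem true⟩ from rfl, E.pi_sgn, one_mul]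

theorem zS_mem : E.pi ⟨epsC, E.eps_C⟩ ∈ E.QS := ⟨_, E.toDat.sx.z_mem, E.pi_Z⟩

theorem zS_ne : E.zS ≠ 1 := by
  intro h
  have h1 : E.pi ⟨Z0, E.Z_C⟩ = E.pi 1 := by rw [E.pi_Z, map_one]; exact Subtype.ext h
  exact Z0_ne (congrArg Subtype.val (E.pi_inj_P (x := ⟨Z0, E.Z_C⟩) E.toDat.sx.z_mem (one_mem _) h1))

theorem range_act : E.toDat.act6.range = Omega (ZMod 2) E.Qf := by
  haveI : Finite ↥(isometryGroup (ZMod 2) E.Qf) := inferInstance
  have hc : Nat.card ↥E.toDat.act6.range = E.R := le_antisymm E.toDat.range_le E.hlow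
  have hR : 0 < E.R := hc ▸ Nat.card_pos
  have hidx : E.toDat.act6.range.index = 2 := by
    have h := Subgroup.index_mul_card E.toDat.act6.range
    rw [hc, E.hiso] at h
    exact Nat.eq_of_mul_eq_mul_right hR h
  have hle : Omega (ZMod 2) E.Qf ≤ E.toDat.act6.range := by
    haveI := Subgroup.normal_of_index_eq_two hidx
    refine (Subgroup.Normal.quotient_commutative_iff_commutator_le
      (N := E.toDat.act6.range)).1 ?_
    haveI : Fact (Nat.Prime 2) := ⟨Nat.prime_two⟩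
    haveI : IsCyclic (↥(isometryGroup (ZMod 2) E.Qf) ⧸ E.toDat.act6.range) :=
      isCyclic_of_prime_card (p := 2) (by rw [← Subgroup.index_eq_card]; exact hidx)
    exact IsCyclic.commutative
  exact (Subgroup.eq_of_le_of_card_ge hle (by rw [hc, E.homega])).symm

/-- the action onto the orthogonal group -/
noncomputable def actOm : ↥E.toDat.C →* ↥(Omega (ZMod 2) E.Qf) :=
  E.toDat.act6.codRestrict _ fun c => E.range_act ▸ ⟨c, rfl⟩

theorem actOm_surjective : Function.Surjective E.actOm := by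
  rintro ⟨v, hv⟩
  rw [← E.range_act] at hv
  obtain ⟨c, hc⟩ := hv
  exact ⟨c, Subtype.ext hc⟩

theorem actOm_ker : E.actOm.ker = E.toDat.act6.ker := MonoidHom.ker_codRestrict _ _ _

theorem pi_kerMap (t : Fin E.p × Bool × ↥E.toDat.P) :
    E.pi (E.toDat.kerMap t) = E.pi ⟨(t.2.2 : ↥C0), t.2.2.2.2⟩ := by
  have e : E.toDat.kerMap t = (⟨E.a, E.toDat.a_mem⟩ : ↥E.toDat.C) ^ (t.1 : ℕ) *
      (⟨sgnC t.2.1, E.toDat.sgnC_mem _⟩ * ⟨(t.2.2 : ↥C0), t.2.2.2.2⟩) := rfl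
  rw [e, map_mul, map_mul, map_pow, E.pi_a, one_pow, one_mul, E.pi_sgn, one_mul]

theorem pi_ker_le : E.pi.ker ≤ E.actOm.ker := by
  intro c hc
  rw [actOm_ker]
  obtain ⟨i, b, e⟩ := E.mk0_eq_one (congrArg Subtype.val hc)
  have : c = E.toDat.kerMap (i, b, 1) := Subtype.ext (by rw [e]; simp [Dat.kerMap])
  rw [this]; exact E.toDat.kerMap_mem _

/-- the quotient map of the centraliser -/
noncomputable def quotMap : ↥(Subgroup.centralizer ({E.zS} : Set E.Q')) →* ↥(Omega (ZMod 2) E.Qf) :=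
  (MonoidHom.liftOfSurjective E.pi E.pi_surjective ⟨E.actOm, E.pi_ker_le⟩)

theorem quotMap_pi (c : ↥E.toDat.C) : E.quotMap (E.pi c) = E.actOm c :=
  MonoidHom.liftOfRightInverse_comp_apply _ _ _ _ c

theorem quotMap_surjective : Function.Surjective E.quotMap := fun v => by
  obtain ⟨c, hc⟩ := E.actOm_surjective v
  exact ⟨E.pi c, (E.quotMap_pi c).trans hc⟩

theorem ker_quotMap : E.quotMap.ker = E.QS := by
  ext s
  obtain ⟨c, rfl⟩ := E.pi_surjective s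
  rw [MonoidHom.mem_ker, quotMap_pi, ← MonoidHom.mem_ker, actOm_ker]
  constructor
  · intro h
    obtain ⟨t, ht⟩ := E.toDat.ker_form E.hlow h
    exact ⟨⟨(t.2.2 : ↥C0), t.2.2.2.2⟩, t.2.2.2, by rw [← ht, pi_kerMap]⟩
  · rintro ⟨x, hx, e⟩
    have h1 : x⁻¹ * c ∈ E.pi.ker := by rw [MonoidHom.mem_ker, map_mul, map_inv, e, inv_mul_cancel]
    have h2 := E.pi_ker_le h1
    rw [actOm_ker, MonoidHom.mem_ker, map_mul, map_inv, E.toDat.P_ker (c := x) hx.1, inv_one, one_mul] at h2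
    exact h2

theorem quot_iso : Nonempty ((Subgroup.centralizer ({E.zS} : Set E.Q')) ⧸ E.QS ≃* ↥(Omega (ZMod 2) E.Qf)) :=
  ⟨(QuotientGroup.quotientMulEquivOfEq E.ker_quotMap.symm).trans
    (QuotientGroup.quotientKerEquivOfSurjective E.quotMap E.quotMap_surjective)⟩

theorem finite_Q' : Finite E.Q' := by
  haveI : Finite ↥Co0 := co0_finite
  haveI : Finite ↥E.CA := Subtype.finite
  exact Quotient.finite _

theorem cent_QS {x : ↥(Subgroup.centralizer ({E.zS} : Set E.Q'))} (h : ∀ q ∈ E.QS, q * x = x * q) :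
    x = 1 ∨ x = E.pi ⟨epsC, E.eps_C⟩ := by
  obtain ⟨c, rfl⟩ := E.pi_surjective x
  have hc : ∀ y ∈ E.toDat.P, (c : ↥C0) * y = y * c := by
    intro y hy
    have hyc : (⟨y, hy.2⟩ : ↥E.toDat.C) ∈ E.PC := hy
    have h1 := h _ ⟨_, hyc, rfl⟩
    rw [← map_mul, ← map_mul] at h1
    have hcy : c * ⟨y, hy.2⟩ * c⁻¹ ∈ E.PC := E.PC_normal.conj_mem _ hyc c
    have h2 : E.pi (c * ⟨y, hy.2⟩ * c⁻¹) = E.pi ⟨y, hy.2⟩ := by
      rw [map_mul, ← h1, ← map_mul, mul_inv_cancel_right]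
    exact mul_inv_eq_iff_eq_mul.1 (congrArg Subtype.val (E.pi_inj_P hcy hyc h2))
  have hk : c ∈ E.toDat.act6.ker :=
    MonoidHom.mem_ker.2 (E.toDat.act6_eq_one (E.toDat.sx.conjMat_comm fun i => hc _ (E.toDat.sx.q_mem i)))
  obtain ⟨t, ht⟩ := E.toDat.ker_form E.hlow hk
  subst ht
  rw [pi_kerMap]
  rcases E.toDat.sx.cent_P t.2.2.2 (fun i => by
    have := hc _ (E.toDat.sx.q_mem i)
    have e : ∀ (w : ↥C0), w ∈ E.toDat.P → E.a ^ (t.1 : ℕ) * sgnC t.2.1 * w = w * (E.a ^ (t.1 : ℕ) * sgnC t.2.1) :=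
      fun w hw => by
        rw [mul_assoc, sgnC_cen, ← mul_assoc, ← mul_assoc]
        congr 1
        exact (show Commute E.a w from E.toDat.mem_C.1 hw.2).pow_left _
    have e1 := e _ (E.toDat.sx.q_mem i)
    simp only [Dat.kerMap, ← mul_assoc] at this
    have : E.a ^ (t.1 : ℕ) * sgnC t.2.1 * ((t.2.2 : ↥C0) * E.toDat.sx.q i) =
        E.a ^ (t.1 : ℕ) * sgnC t.2.1 * (E.toDat.sx.q i * (t.2.2 : ↥C0)) := by
      rw [← mul_assoc, this, ← mul_assoc, e1]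
      simp only [mul_assoc]
    exact mul_left_cancel this) with e | e
  · left
    rw [show (⟨(t.2.2 : ↥C0), t.2.2.2.2⟩ : ↥E.toDat.C) = 1 from Subtype.ext e, map_one]
  · right
    rw [show (⟨(t.2.2 : ↥C0), t.2.2.2.2⟩ : ↥E.toDat.C) = ⟨Z0, E.Z_C⟩ from Subtype.ext e, E.pi_Z]

theorem pos_ι (E : Sec ι) : 0 < Fintype.card ι := by
  by_contra h
  haveI : IsEmpty ι := Fintype.card_eq_zero_iff.1 (by omega)
  exact E.z1_coord (funext fun i => isEmptyElim i)

set_option maxHeartbeats 1000000 in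
theorem extraspecial : Cfsg.IsExtraspecial 2 ↥E.QS := by
  haveI : Fact (Nat.Prime 2) := ⟨Nat.prime_two⟩
  haveI : Finite ↥E.QS := Nat.finite_of_card_ne_zero (by rw [E.card_QS]; simp)
  set zc : ↥E.QS := ⟨E.pi ⟨epsC, E.eps_C⟩, E.zS_mem⟩ with hzc
  have hcen : ∀ x : ↥E.QS, x ∈ Subgroup.center ↥E.QS ↔ x = 1 ∨ x = zc := by
    intro x
    rw [Subgroup.mem_center_iff]
    constructor
    · intro h
      rcases E.cent_QS (x := (x : ↥(Subgroup.centralizer ({E.zS} : Set E.Q'))))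
        (fun q hq => congrArg Subtype.val (h ⟨q, hq⟩)) with e | e
      · exact Or.inl (Subtype.ext e)
      · exact Or.inr (Subtype.ext e)
    · intro h y
      rcases h with h | h <;> rw [h]
      · rw [one_mul, mul_one]
      · exact Subtype.ext (Subtype.ext (Subgroup.mem_centralizer_singleton_iff.1
          (y : ↥(Subgroup.centralizer ({E.zS} : Set E.Q'))).2))
  have lift : ∀ x : ↥E.QS, ∃ u : ↥E.toDat.C, u ∈ E.PC ∧ E.pi u = x := fun x => x.2
  have hzp : ∀ a : ZMod 2, ∀ h : zp Z0 a ∈ E.toDat.C, E.pi ⟨zp Z0 a, h⟩ = zp (E.pi ⟨epsC, E.eps_C⟩) a := by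
    intro a h
    rcases two_cases a with rfl | rfl
    · exact map_one E.pi
    · exact E.pi_Z
  have sq : ∀ x : ↥E.QS, x ^ 2 = 1 ∨ x ^ 2 = zc := fun x => by
    obtain ⟨u, hu, e⟩ := lift x
    rcases E.toDat.sx.sq_cases (u : ↥C0) hu with e1 | e1
    · left; apply Subtype.ext
      rw [SubgroupClass.coe_pow, ← e, pow_two, ← map_mul, show u * u = 1 from Subtype.ext e1, map_one]; rfl
    · right; apply Subtype.ext
      rw [SubgroupClass.coe_pow, ← e, pow_two, ← map_mul, show u * u = ⟨Z0, E.Z_C⟩ from Subtype.ext e1, E.pi_Z]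
  have hzne : zc ≠ 1 := fun h => E.zS_ne (congrArg (fun x : ↥E.QS =>
    ((x : ↥(Subgroup.centralizer ({E.zS} : Set E.Q'))) : E.Q')) h)
  refine Cfsg.Agent.Solv.isExtraspecial_of (IsPGroup.of_card E.card_QS) ?_ (le_antisymm ?_ ?_) fun x => ?_
  · rw [Nat.card_eq_two_iff]
    refine ⟨1, ⟨zc, (hcen _).2 (Or.inr rfl)⟩, fun e => hzne (congrArg Subtype.val e).symm,
      Set.eq_univ_of_forall fun x => ?_⟩
    rcases (hcen x.1).1 x.2 with e | e
    exacts [Or.inl (Subtype.ext e), Or.inr (Subtype.ext e)]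
  · rw [commutator_def, Subgroup.commutator_le]
    intro x _ y _
    obtain ⟨u, hu, ex⟩ := lift x
    obtain ⟨w, hw, ey⟩ := lift y
    rw [hcen]
    rcases E.toDat.sx.comm_cases (u : ↥C0) hu (w : ↥C0) hw with e | e
    · left
      rw [commutatorElement_eq_one_iff_mul_comm]
      apply Subtype.ext
      rw [Subgroup.coe_mul, Subgroup.coe_mul, ← ex, ← ey, ← map_mul, ← map_mul,
        show u * w = w * u from Subtype.ext e]
    · right
      apply Subtype.ext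
      rw [commutatorElement_def]
      simp only [Subgroup.coe_mul, InvMemClass.coe_inv]
      rw [← ex, ← ey, ← map_mul, show u * w = ⟨Z0, E.Z_C⟩ * (w * u) from Subtype.ext e, map_mul, map_mul,
        E.pi_Z]
      show E.pi _ * (E.pi w * E.pi u) * (E.pi u)⁻¹ * (E.pi w)⁻¹ = E.pi _
      group
  · intro x hx
    rcases (hcen x).1 hx with rfl | rfl
    · exact one_mem _
    · obtain ⟨j⟩ : Nonempty ι := Fintype.card_pos_iff.1 E.pos_ι
      have hne : E.q j * E.q (E.δ j) ≠ E.q (E.δ j) * E.q j := by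
        intro e
        have h1 := E.q_comm j (E.δ j)
        rw [E.pol_dual, if_pos rfl, e] at h1
        exact Z0_ne (mul_eq_right.1 h1.symm)
      have e := (E.toDat.sx.comm_cases _ (E.toDat.sx.q_mem j) _ (E.toDat.sx.q_mem (E.δ j))).resolve_left hne
      let u : ↥E.toDat.C := ⟨E.q j, (E.toDat.sx.q_mem j).2⟩
      let w : ↥E.toDat.C := ⟨E.q (E.δ j), (E.toDat.sx.q_mem (E.δ j)).2⟩
      have hu : u ∈ E.PC := E.toDat.sx.q_mem j
      have hw : w ∈ E.PC := E.toDat.sx.q_mem (E.δ j)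
      have hc : ⁅(⟨E.pi u, u, hu, rfl⟩ : ↥E.QS), (⟨E.pi w, w, hw, rfl⟩ : ↥E.QS)⁆ = zc := by
        apply Subtype.ext
        show E.pi u * E.pi w * (E.pi u)⁻¹ * (E.pi w)⁻¹ = E.pi _
        rw [← map_mul, show u * w = ⟨Z0, E.Z_C⟩ * (w * u) from Subtype.ext e, map_mul, map_mul, E.pi_Z]
        group
      rw [← hc, commutator_def]
      exact Subgroup.commutator_mem_commutator (Subgroup.mem_top _) (Subgroup.mem_top _)
  · rcases sq x with e | e <;> rw [e]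
    · exact one_mem _
    · exact (hcen _).2 (Or.inr rfl)

theorem no_pgroup (M : Subgroup ↥(Omega (ZMod 2) E.Qf)) [M.Normal] (hM : IsPGroup 2 M) : M = ⊥ := by
  haveI : Fact (Nat.Prime 2) := ⟨Nat.prime_two⟩
  haveI := E.hsimp
  refine (IsSimpleGroup.eq_bot_or_eq_top_of_normal M inferInstance).resolve_right fun h => ?_
  obtain ⟨k, hk⟩ := IsPGroup.iff_card.1 hM
  rw [h, Subgroup.card_top, E.homega] at hk
  have := Nat.Prime.dvd_of_dvd_pow Nat.prime_three (hk ▸ E.h3)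
  norm_num at this

theorem gfit_eq : Cfsg.generalizedFittingSubgroup ↥(Subgroup.centralizer ({E.zS} : Set E.Q')) = E.QS := by
  haveI : Fact (Nat.Prime 2) := ⟨Nat.prime_two⟩
  haveI := E.finite_Q'
  haveI : Finite ↥(Subgroup.centralizer ({E.zS} : Set E.Q')) := Subtype.finite
  have hle : E.QS ≤ Cfsg.pCore 2 _ := Cfsg.Agent.Fusion.le_pCore (IsPGroup.of_card E.card_QS)
  have heq : Cfsg.pCore 2 ↥(Subgroup.centralizer ({E.zS} : Set E.Q')) = E.QS := by
    refine le_antisymm ?_ hle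
    haveI : ((Cfsg.pCore 2 ↥(Subgroup.centralizer ({E.zS} : Set E.Q'))).map E.quotMap).Normal :=
      Subgroup.Normal.map inferInstance _ E.quotMap_surjective
    have h := E.no_pgroup _ ((Cfsg.Agent.Fusion.isPGroup_pCore 2 _).map E.quotMap)
    rwa [Subgroup.map_eq_bot_iff, E.ker_quotMap] at h
  rw [← heq, Cfsg.Agent.Fusion.gfit_eq_pCore_iff, heq]
  intro y hy
  rcases E.cent_QS (x := y) (fun q hq => Subgroup.mem_centralizer_iff.1 hy q hq) with e | e <;> rw [e]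
  · exact one_mem _
  · exact E.zS_mem

end Sec

end Cfsg.Agent.Spor.Co0Sec
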