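/-
Simplicity of the section, and the statement form.
-/
import Cfsg.Agent.Lib.Spor.Co0Sec.Sec

set_option autoImplicit false
set_option maxRecDepth 100000

namespace Cfsg.Agent.Spor.Co0Sec

open Cfsg Cfsg.Agent.Spor Cfsg.Agent.Spor.Co1Invol

variable {ι : Type} [Fintype ι] [DecidableEq ι]

namespace Sec

variable (E : Sec ι)

/-- the two-group inside the section -/
noncomputable def PS : Subgroup E.Q' := E.QS.map (Subgroup.centralizer ({E.zS} : Set E.Q')).subtype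

theorem mem_PS {x : E.Q'} : x ∈ E.PS ↔ ∃ c : ↥E.toDat.C, (c : ↥C0) ∈ E.toDat.P ∧ E.mk0 c = x := by
  constructor
  · rintro ⟨_, ⟨c, hc, rfl⟩, rfl⟩; exact ⟨c, hc, rfl⟩
  · rintro ⟨c, hc, rfl⟩; exact ⟨E.pi c, ⟨c, hc, rfl⟩, rfl⟩

theorem PS_le : E.PS ≤ Subgroup.centralizer ({E.zS} : Set E.Q') := Subgroup.map_subtype_le _

theorem zS_PS : E.zS ∈ E.PS := ⟨_, E.zS_mem, rfl⟩

theorem zS_sq : E.zS * E.zS = 1 := by
  rw [zS, ← map_mul, show (⟨epsC, E.eps_C⟩ : ↥E.toDat.C) * ⟨epsC, E.eps_C⟩ = 1 from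
    Subtype.ext (Subtype.ext eps_sq), map_one]

/-- the copy of the two-group -/
noncomputable def PS_equiv : ↥E.QS ≃* ↥E.PS :=
  Subgroup.equivMapOfInjective E.QS _ (Subgroup.subtype_injective _)

theorem isExtraspecial_of_equiv {X Y : Type*} [Group X] [Group Y] [Finite X] (e : X ≃* Y)
    (h : Cfsg.IsExtraspecial 2 X) : Cfsg.IsExtraspecial 2 Y := by
  haveI : Fact (Nat.Prime 2) := ⟨Nat.prime_two⟩
  haveI : Finite Y := Finite.of_equiv _ e.toEquiv
  have hc : Subgroup.center Y = (Subgroup.center X).map e.toMonoidHom := by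
    ext y
    rw [Subgroup.mem_map]
    constructor
    · intro hy
      exact ⟨e.symm y, Subgroup.mem_center_iff.2 fun x => e.injective (by
        rw [map_mul, map_mul, e.apply_symm_apply]; exact Subgroup.mem_center_iff.1 hy (e x)), e.apply_symm_apply y⟩
    · rintro ⟨x, hx, rfl⟩
      exact Subgroup.mem_center_iff.2 fun w => by
        have := congrArg e (Subgroup.mem_center_iff.1 hx (e.symm w))
        rwa [map_mul, map_mul, e.apply_symm_apply] at this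
  refine Cfsg.Agent.Solv.isExtraspecial_of (h.1.1.of_equiv e) ?_ ?_ fun y => ?_
  · rw [hc, ← Nat.card_congr ((Subgroup.center X).equivMapOfInjective e.toMonoidHom e.injective).toEquiv]
    exact h.2
  · rw [hc, ← h.1.2.2, commutator_def, commutator_def, Subgroup.map_commutator,
      Subgroup.map_top_of_surjective e.toMonoidHom e.surjective]
  · rw [hc]
    exact ⟨e.symm y ^ 2, Cfsg.Agent.Solv.extraspecial_pow_mem_center h _, by simp⟩

theorem extraspecial_PS : Cfsg.IsExtraspecial 2 ↥E.PS := by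
  haveI := E.finite_Q'
  exact isExtraspecial_of_equiv E.PS_equiv E.extraspecial

theorem cent_PS {x : E.Q'} (h : ∀ q ∈ E.PS, q * x = x * q) : x = 1 ∨ x = E.zS := by
  have hx : x ∈ Subgroup.centralizer ({E.zS} : Set E.Q') :=
    Subgroup.mem_centralizer_singleton_iff.2 (h _ E.zS_PS).symm
  rcases E.cent_QS (x := ⟨x, hx⟩) (fun q hq => Subtype.ext (h _ ⟨q, hq, rfl⟩)) with e | e
  · exact Or.inl (congrArg Subtype.val e)
  · exact Or.inr (congrArg Subtype.val e)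

theorem center_PS : (Subgroup.center ↥E.PS).map E.PS.subtype = Subgroup.zpowers E.zS := by
  refine le_antisymm ?_ ?_
  · rintro _ ⟨x, hx, rfl⟩
    rcases E.cent_PS (x := (x : E.Q')) (fun q hq => congrArg Subtype.val (Subgroup.mem_center_iff.1 hx ⟨q, hq⟩))
      with e | e
    · show (x : E.Q') ∈ _; rw [e]; exact one_mem _
    · show (x : E.Q') ∈ _; rw [e]; exact Subgroup.mem_zpowers _
  · rw [Subgroup.zpowers_le]
    refine ⟨⟨E.zS, E.zS_PS⟩, Subgroup.mem_center_iff.2 fun y => Subtype.ext ?_, rfl⟩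
    exact Subgroup.mem_centralizer_singleton_iff.1 (E.PS_le y.2)

theorem zpowers_two {x : E.Q'} (hx : x ∈ Subgroup.zpowers E.zS) : x = 1 ∨ x = E.zS := by
  obtain ⟨k, rfl⟩ := Subgroup.mem_zpowers_iff.1 hx
  rcases Int.even_or_odd k with ⟨m, rfl⟩ | ⟨m, rfl⟩
  · left; rw [← two_mul, zpow_mul, zpow_two, E.zS_sq, one_zpow]
  · right; rw [zpow_add, zpow_mul, zpow_two, E.zS_sq, one_zpow, one_mul, zpow_one]

theorem cent_eq : Subgroup.centralizer (E.PS : Set E.Q') = (Subgroup.center ↥E.PS).map E.PS.subtype := by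
  rw [E.center_PS]
  refine le_antisymm (fun x hx => ?_) ?_
  · rcases E.cent_PS (x := x) (fun q hq => Subgroup.mem_centralizer_iff.1 hx q hq) with e | e <;> rw [e]
    exacts [one_mem _, Subgroup.mem_zpowers _]
  · rw [Subgroup.zpowers_le, Subgroup.mem_centralizer_iff]
    exact fun q hq => Subgroup.mem_centralizer_singleton_iff.1 (E.PS_le hq)

theorem conj_PS {c : E.Q'} (hc : Commute c E.zS) {q : E.Q'} (hq : q ∈ E.PS) : c * q * c⁻¹ ∈ E.PS := by
  obtain ⟨q', hq', rfl⟩ := hq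
  exact ⟨⟨c, Subgroup.mem_centralizer_singleton_iff.2 hc.eq⟩ * q' *
    ⟨c, Subgroup.mem_centralizer_singleton_iff.2 hc.eq⟩⁻¹, E.QS_normal.conj_mem _ hq' _, rfl⟩

theorem norm_le : Subgroup.centralizer (((Subgroup.center ↥E.PS).map E.PS.subtype : Subgroup E.Q') : Set E.Q') ≤
    Subgroup.normalizer (E.PS : Set E.Q') := by
  intro c hc
  rw [E.center_PS] at hc
  have hcz : Commute c E.zS := (Subgroup.mem_centralizer_iff.1 hc _ (Subgroup.mem_zpowers _)).symm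
  rw [Subgroup.mem_normalizer_iff]
  refine fun q => ⟨E.conj_PS hcz, fun h => ?_⟩
  have := E.conj_PS hcz.inv_left h
  rwa [show c⁻¹ * (c * q * c⁻¹) * c⁻¹⁻¹ = q by group] at this

/-- the fusing element -/
noncomputable def gS : E.Q' := QuotientGroup.mk ⟨E.g, E.mem_CA.2 E.g_a⟩

theorem gS_z1 : E.gS * E.zS * E.gS⁻¹ = E.mk0 ⟨E.z1, E.z1_mem.2⟩ := by
  rw [mul_inv_eq_iff_eq_mul]
  exact congrArg (QuotientGroup.mk (s := E.N0)) (Subtype.ext E.z1_eq)

theorem gS_z2 : E.gS⁻¹ * E.zS * E.gS = E.mk0 ⟨E.z2, E.z2_mem.2⟩ := by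
  rw [mul_assoc, inv_mul_eq_iff_eq_mul]
  exact congrArg (QuotientGroup.mk (s := E.N0)) (Subtype.ext E.z2_eq)

theorem z1S_mem : E.gS * E.zS * E.gS⁻¹ ∈ E.PS := E.mem_PS.2 ⟨_, E.z1_mem, E.gS_z1.symm⟩

theorem z1S_ne : E.gS * E.zS * E.gS⁻¹ ≠ E.zS := by
  intro h
  rw [E.gS_z1] at h
  have h' : E.mk0 ⟨E.z1, E.z1_mem.2⟩ = E.mk0 ⟨Z0, E.Z_C⟩ :=
    h.trans (congrArg Subtype.val E.pi_Z).symm
  have := congrArg Subtype.val (E.mk0_inj_P (x := ⟨E.z1, E.z1_mem.2⟩) (y := ⟨Z0, E.Z_C⟩) E.z1_mem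
    E.toDat.sx.z_mem h')
  refine E.z1_coord ?_
  rw [show E.z1 = E.toDat.sx.z from this, Sx.coord_z]

theorem xt : Spor.Large.XT E.zS E.PS where
  ne := E.zS_ne
  sq := E.zS_sq
  mem := E.zS_PS
  cen a ha := (Subgroup.mem_centralizer_singleton_iff.1 (E.PS_le ha)).symm
  comm a ha b hb := by
    obtain ⟨u, hu, rfl⟩ := E.mem_PS.1 ha
    obtain ⟨w, hw, rfl⟩ := E.mem_PS.1 hb
    rcases E.toDat.sx.comm_cases (u : ↥C0) hu (w : ↥C0) hw with e | e
    · left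
      rw [mul_inv_eq_iff_eq_mul, ← map_mul, ← map_mul, show u * w = w * u from Subtype.ext e]
    · right
      rw [mul_inv_eq_iff_eq_mul, ← map_mul, show u * w = ⟨Z0, E.Z_C⟩ * (w * u) from Subtype.ext e, map_mul,
        map_mul, show E.mk0 ⟨Z0, E.Z_C⟩ = E.zS from congrArg Subtype.val E.pi_Z, ← mul_assoc,
        ← E.mk0_comm w]
  eq_of_cen a _ h := E.cent_PS fun q hq => (h q hq).symm.eq

theorem hgen (N : Subgroup E.Q') (hN : N.Normal) (hz : E.zS ∈ N) (c : E.Q') (hc : Commute c E.zS) : c ∈ N := by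
  haveI := hN
  set M : Subgroup ↥E.toDat.C := N.comap E.mk0 with hM
  have hz1 : (⟨E.z1, E.z1_mem.2⟩ : ↥E.toDat.C) ∈ M := by
    rw [hM, Subgroup.mem_comap, ← E.gS_z1]; exact hN.conj_mem _ hz _
  have hZ : (⟨Z0, E.Z_C⟩ : ↥E.toDat.C) ∈ M := by
    rw [hM, Subgroup.mem_comap, show E.mk0 ⟨Z0, E.Z_C⟩ = E.zS from congrArg Subtype.val E.pi_Z]; exact hz
  -- the coordinates met by the subgroup
  let S : AddSubgroup (ι → ZMod 2) :=
    { carrier := {v | ∃ x : ↥E.toDat.C, x ∈ E.PC ∧ x ∈ M ∧ E.toDat.sx.coord (x : ↥C0) = v}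
      zero_mem' := ⟨1, one_mem _, one_mem _, E.toDat.sx.coord_one⟩
      add_mem' := by
        rintro v w ⟨x, hx, hxM, rfl⟩ ⟨y, hy, hyM, rfl⟩
        exact ⟨x * y, mul_mem hx hy, mul_mem hxM hyM, E.toDat.sx.coord_mul hx hy⟩
      neg_mem' := by
        rintro v ⟨x, hx, hxM, rfl⟩
        exact ⟨x, hx, hxM, funext fun i => (CharTwo.neg_eq _).symm⟩ }
  have hS : S = ⊤ := E.hspan S ⟨_, E.z1_mem, hz1, rfl⟩ (by
    rintro d v ⟨x, hx, hxM, rfl⟩
    exact ⟨d * x * d⁻¹, E.PC_normal.conj_mem _ hx d, (Subgroup.Normal.comap hN E.mk0).conj_mem _ hxM d,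
      (E.toDat.sx.conjMat_spec (E.toDat.norms _ d.2) hx).symm⟩)
  have hPM : E.PC ≤ M := by
    intro x hx
    obtain ⟨y, hy, hyM, e⟩ : E.toDat.sx.coord (x : ↥C0) ∈ S := hS ▸ AddSubgroup.mem_top _
    have h0 : E.toDat.sx.coord ((y⁻¹ * x : ↥E.toDat.C) : ↥C0) = 0 := by
      rw [Subgroup.coe_mul, Subgroup.coe_inv, E.toDat.sx.coord_mul (x := ((y : ↥C0))⁻¹) (y := (x : ↥C0)) (inv_mem hy) hx,
        E.toDat.sx.coord_inv (x := (y : ↥C0)) hy, e]
      funext i; exact CharTwo.add_self_eq_zero _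
    have hm : y⁻¹ * x ∈ M := by
      rcases E.toDat.sx.coord_ker (mul_mem (inv_mem hy) hx) h0 with e' | e'
      · rw [show y⁻¹ * x = 1 from Subtype.ext e']; exact one_mem _
      · rw [show y⁻¹ * x = ⟨Z0, E.Z_C⟩ from Subtype.ext e']; exact hZ
    simpa using mul_mem hyM hm
  -- an element outside the two-group
  have hu : ∃ u : ↥E.toDat.C, u ∈ M ∧ E.actOm u ≠ 1 := by
    have hua : E.u0 * E.a = E.a * E.u0 := by
      refine Subtype.ext ?_
      show (E.u0 : ↥Co0) * (E.a : ↥Co0) = (E.a : ↥Co0) * (E.u0 : ↥Co0)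
      have e1 : (E.u0 : ↥Co0) = E.g * (E.x0 : ↥Co0) * E.g⁻¹ := eq_mul_inv_of_mul_eq E.u0_eq.symm
      have h1 : Commute (E.g : ↥Co0) (E.a : ↥Co0) := E.g_a
      have h2 : Commute ((E.x0 : ↥C0) : ↥Co0) (E.a : ↥Co0) :=
        (congrArg Subtype.val (E.toDat.mem_C.1 E.x0_mem.2)).symm
      rw [e1]; exact ((h1.mul_left h2).mul_left h1.inv_left).eq
    refine ⟨⟨E.u0, E.toDat.mem_C.2 hua.symm⟩, ?_, fun h => ?_⟩
    · have e : E.mk0 ⟨E.u0, E.toDat.mem_C.2 hua.symm⟩ = E.gS * E.mk0 ⟨E.x0, E.x0_mem.2⟩ * E.gS⁻¹ := by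
        rw [eq_mul_inv_iff_mul_eq]
        exact congrArg (QuotientGroup.mk (s := E.N0)) (Subtype.ext E.u0_eq.symm)
      rw [hM, Subgroup.mem_comap, e]
      exact hN.conj_mem _ (hPM (show (⟨E.x0, E.x0_mem.2⟩ : ↥E.toDat.C) ∈ E.PC from E.x0_mem)) _
    · exact E.u0_ne (congrArg (fun v : ↥(Omega (ZMod 2) E.Qf) =>
        (((v : ↥(isometryGroup (ZMod 2) E.Qf)) : Matrix.GeneralLinearGroup ι (ZMod 2)) : Matrix ι ι (ZMod 2))) h)
  have hker : E.actOm.ker ≤ M := by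
    intro x hx
    rw [actOm_ker] at hx
    obtain ⟨t, rfl⟩ := E.toDat.ker_form E.hlow hx
    rw [hM, Subgroup.mem_comap, show E.mk0 (E.toDat.kerMap t) = E.mk0 ⟨(t.2.2 : ↥C0), t.2.2.2.2⟩ from
      congrArg Subtype.val (E.pi_kerMap t)]
    exact hPM (show (⟨(t.2.2 : ↥C0), t.2.2.2.2⟩ : ↥E.toDat.C) ∈ E.PC from t.2.2.2)
  haveI hMn : (M.map E.actOm).Normal := Subgroup.Normal.map (Subgroup.Normal.comap hN E.mk0) _ E.actOm_surjective
  haveI := E.hsimp
  have htop : M.map E.actOm = ⊤ := (IsSimpleGroup.eq_bot_or_eq_top_of_normal _ hMn).resolve_left fun h => by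
    obtain ⟨u, hu1, hu2⟩ := hu
    exact hu2 (Subgroup.mem_bot.1 (h ▸ Subgroup.mem_map_of_mem _ hu1))
  have hMtop : M = ⊤ := by
    rw [← Subgroup.comap_map_eq_self hker, htop, Subgroup.comap_top]
  obtain ⟨d, hd⟩ := E.pi_surjective ⟨c, Subgroup.mem_centralizer_singleton_iff.2 hc.eq⟩
  have : d ∈ M := hMtop ▸ Subgroup.mem_top d
  rw [hM, Subgroup.mem_comap, show E.mk0 d = c from congrArg Subtype.val hd] at this
  exact this

theorem large : Cfsg.IsLargeExtraspecial E.PS := by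
  haveI := E.finite_Q'
  haveI : Fact (Nat.Prime 2) := ⟨Nat.prime_two⟩
  set b := E.gS * E.zS * E.gS⁻¹ with hb
  have hb2 : orderOf b = 2 := by
    refine orderOf_eq_prime ?_ fun h => E.zS_ne (conj_eq_one_iff.1 h)
    rw [hb, pow_two, show E.gS * E.zS * E.gS⁻¹ * (E.gS * E.zS * E.gS⁻¹) = E.gS * (E.zS * E.zS) * E.gS⁻¹ by group,
      E.zS_sq]
    group
  refine Spor.Large.involution_in_core E.PS E.extraspecial_PS E.cent_eq E.norm_le b E.z1S_mem ?_ hb2 ?_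
  · rw [E.center_PS]
    intro h
    rcases E.zpowers_two h with e | e
    · exact E.zS_ne (conj_eq_one_iff.1 e)
    · exact E.z1S_ne e
  · rw [E.center_PS, Subgroup.zpowers_le]
    -- the conjugate two-group lies in the core
    have hR : E.PS.map (MulAut.conj E.gS).toMonoidHom ≤
        Cfsg.pCoreOf 2 (Subgroup.centralizer ({b} : Set E.Q')) := by
      refine Cfsg.Agent.Fusion.le_pCoreOf ?_ ?_ (E.extraspecial_PS.1.1.map _)
      · rintro _ ⟨y, hy, rfl⟩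
        rw [Subgroup.mem_centralizer_singleton_iff]
        have := (E.xt.cen y hy).symm
        exact ((Commute.conj_iff E.gS).2 this).eq
      · intro d hd
        have hdz : Commute (E.gS⁻¹ * d * E.gS) E.zS := by
          have := (Commute.conj_iff E.gS⁻¹).2 (show Commute d b from Subgroup.mem_centralizer_singleton_iff.1 hd)
          rwa [inv_inv, hb, show E.gS⁻¹ * (E.gS * E.zS * E.gS⁻¹) * E.gS = E.zS by group] at this
        rw [Subgroup.mem_normalizer_iff]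
        intro y
        simp only [SetLike.mem_coe, Subgroup.mem_map_equiv, MulAut.conj_symm_apply]
        constructor
        · intro h
          have := E.conj_PS hdz h
          rwa [show E.gS⁻¹ * d * E.gS * (E.gS⁻¹ * y * E.gS) * (E.gS⁻¹ * d * E.gS)⁻¹ =
            E.gS⁻¹ * (d * y * d⁻¹) * E.gS by group] at this
        · intro h
          have := E.conj_PS hdz.inv_left h
          rwa [show (E.gS⁻¹ * d * E.gS)⁻¹ * (E.gS⁻¹ * (d * y * d⁻¹) * E.gS) * (E.gS⁻¹ * d * E.gS)⁻¹⁻¹ =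
            E.gS⁻¹ * y * E.gS by group] at this
    refine hR ?_
    rw [Subgroup.mem_map_equiv, MulAut.conj_symm_apply, E.gS_z2]
    exact E.mem_PS.2 ⟨_, E.z2_mem, rfl⟩

theorem simple : IsSimpleGroup E.Q' := by
  haveI := E.finite_Q'
  exact Spor.Large.simple_of_large E.PS E.large E.xt (fun c hc q hq => E.conj_PS hc hq) E.hgen

theorem not_comm : ¬ IsMulCommutative E.Q' := fun h => E.z1S_ne (by
  rw [h.is_comm.comm E.gS E.zS, mul_inv_cancel_right])

theorem statement : ∃ A : Subgroup ↥Cfsg.Co0, Nat.card A = E.p ∧ ∃ (hn : ((A ⊔ Subgroup.center ↥Cfsg.Co0).subgroupOf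
    (Subgroup.centralizer (A : Set ↥Cfsg.Co0))).Normal), ∃ (S : Type) (_ : Group S) (_ : Finite S),
    Nonempty (S ≃* ↥(Subgroup.centralizer (A : Set ↥Cfsg.Co0)) ⧸
      (A ⊔ Subgroup.center ↥Cfsg.Co0).subgroupOf (Subgroup.centralizer (A : Set ↥Cfsg.Co0))) ∧
    IsSimpleGroup S ∧ ¬ IsMulCommutative S ∧ ∃ z : S, orderOf z = 2 ∧
      ∃ (Q : Subgroup (Subgroup.centralizer ({z} : Set S))) (_ : Q.Normal),
        Cfsg.generalizedFittingSubgroup (Subgroup.centralizer ({z} : Set S)) = Q ∧ Cfsg.IsExtraspecial 2 Q ∧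
        Nat.card Q = 2 ^ (Fintype.card ι + 1) ∧
        Nonempty ((Subgroup.centralizer ({z} : Set S)) ⧸ Q ≃* Cfsg.Omega (ZMod 2) E.Qf) ∧
        ∃ g : S, (∃ hq : g * z * g⁻¹ ∈ Subgroup.centralizer ({z} : Set S),
          (⟨g * z * g⁻¹, hq⟩ : Subgroup.centralizer ({z} : Set S)) ∈ Q) ∧ g * z * g⁻¹ ≠ z := by
  haveI : Fact (Nat.Prime 2) := ⟨Nat.prime_two⟩
  refine ⟨E.A, ?_, E.N0_normal, E.Q', inferInstance, E.finite_Q', ⟨MulEquiv.refl _⟩, E.simple, E.not_comm,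
    E.zS, orderOf_eq_prime (by rw [pow_two, E.zS_sq]) E.zS_ne, E.QS, E.QS_normal, E.gfit_eq, E.extraspecial,
    E.card_QS, E.quot_iso, E.gS, ?_, E.z1S_ne⟩
  · rw [A, Nat.card_zpowers, orderOf_submonoid, E.toDat.orderOf_a]
  · obtain ⟨q, hq, e⟩ := E.z1S_mem
    refine ⟨E.PS_le E.z1S_mem, ?_⟩
    rwa [show (⟨E.gS * E.zS * E.gS⁻¹, E.PS_le E.z1S_mem⟩ : ↥(Subgroup.centralizer ({E.zS} : Set E.Q'))) = q from
      Subtype.ext e.symm]

end Sec

end Cfsg.Agent.Spor.Co0Sec
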