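/-
Assembling the section from matrix data.
-/
import Cfsg.Agent.Lib.Spor.Co0Sec.Checks
import Cfsg.Agent.Lib.Spor.Co0Sec.Simple

set_option autoImplicit false
set_option maxRecDepth 100000

namespace Cfsg.Agent.Spor.Co0Sec

open Cfsg Cfsg.Agent.Spor Cfsg.Agent.Spor.Co1Invol

/-- an element of the centraliser of the octad sign change -/
def chk (M : IMat) : Bool := matOK M && prodEq M epsM epsM M

/-- a monomial element of the centraliser of the octad sign change -/
def chkP (x : List ℕ × ℕ) : Bool := monoOK x.1 x.2 && prodEq (monoM x.1 x.2) epsM epsM (monoM x.1 x.2)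

/-- the matrix of a monomial element -/
def matP (x : List ℕ × ℕ) : IMat := monoM x.1 x.2


/-- the element in the centraliser -/
noncomputable def inC0 (g : ↥Co0) : ↥C0 :=
  haveI := _root_.Classical.propDecidable (g ∈ C0)
  if h : g ∈ C0 then ⟨g, h⟩ else 1

theorem inC0_val {g : ↥Co0} (h : g ∈ C0) : ((inC0 g : ↥C0) : ↥Co0) = g := by rw [inC0, dif_pos h]

theorem chk_spec {M : IMat} (h : chk M = true) : El ((inC0 (el M) : ↥C0) : ↥Co0) M := by
  simp only [chk, Bool.and_eq_true] at h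
  rw [inC0_val (C0_of_check (el_spec h.1) h.2)]; exact el_spec h.1

theorem chkP_spec {x : List ℕ × ℕ} (h : chkP x = true) :
    El ((inC0 (elMono x.1 x.2) : ↥C0) : ↥Co0) (matP x) := by
  simp only [chkP, Bool.and_eq_true] at h
  rw [inC0_val (C0_of_check (elMono_spec h.1) h.2)]; exact elMono_spec h.1

theorem getD_mem {α : Type*} (L : List α) {k : ℕ} (hk : k < L.length) (d : α) : L.getD k d ∈ L := by
  rw [List.getD_eq_getElem _ _ hk]; exact List.getElem_mem _

/-- positions in the minus space -/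
def bitM (m : ℕ) : (Fin m ⊕ Fin m) ⊕ Fin 2 → ℕ :=
  Sum.elim (Sum.elim (fun i => i.1) fun i => m + i.1) fun i => 2 * m + i.1

/-- dual positions in the minus space -/
def dualM (m : ℕ) : (Fin m ⊕ Fin m) ⊕ Fin 2 → (Fin m ⊕ Fin m) ⊕ Fin 2 :=
  Sum.elim (fun i => .inl i.swap) fun i => .inr (if i = 0 then 1 else 0)

theorem polF_minus (m : ℕ) (u v : (Fin m ⊕ Fin m) ⊕ Fin 2 → ZMod 2) :
    polF (quadFormMinus m (ZMod 2) 1 1) u v =
      (∑ i : Fin m, (u (.inl (.inl i)) * v (.inl (.inr i)) + u (.inl (.inr i)) * v (.inl (.inl i)))) +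
        (u (.inr 0) * v (.inr 1) + u (.inr 1) * v (.inr 0)) := by
  simp only [polF, quadFormMinus, Pi.add_apply, add_mul, mul_add, Finset.sum_add_distrib, one_mul]
  have h2 : (2 : ZMod 2) = 0 := rfl
  have hc : ∀ i : Fin m, v (.inl (.inl i)) * u (.inl (.inr i)) = u (.inl (.inr i)) * v (.inl (.inl i)) := fun i =>
    mul_comm _ _
  simp only [hc]
  linear_combination (norm := ring) ((∑ i : Fin m, u (.inl (.inl i)) * u (.inl (.inr i))) +
    (∑ i : Fin m, v (.inl (.inl i)) * v (.inl (.inr i))) + u (.inr 0) ^ 2 + u (.inr 0) * u (.inr 1) + u (.inr 1) ^ 2 +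
    v (.inr 0) ^ 2 + v (.inr 0) * v (.inr 1) + v (.inr 1) ^ 2 + u (.inr 0) * v (.inr 0) + u (.inr 1) * v (.inr 1)) * h2

theorem pol_add_minus (m : ℕ) (u v w : (Fin m ⊕ Fin m) ⊕ Fin 2 → ZMod 2) :
    polF (quadFormMinus m (ZMod 2) 1 1) (u + v) w =
      polF (quadFormMinus m (ZMod 2) 1 1) u w + polF (quadFormMinus m (ZMod 2) 1 1) v w := by
  simp only [polF_minus, Pi.add_apply, add_mul, Finset.sum_add_distrib]
  ring

theorem Qf_zero_minus (m : ℕ) : quadFormMinus m (ZMod 2) 1 1 0 = 0 := by simp [quadFormMinus]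

variable {ι : Type} [Fintype ι] [DecidableEq ι]

/-- the orbit of the image spans -/
theorem Dat.span_of_orbit (D : Dat ι) (bit : ι → ℕ) (gens : List (List ℕ)) (els : List (List ℕ × ℕ × ℕ))
    (hg : ∀ k, k < gens.length → ∃ c : ↥D.C, D.sx.conjMat (c : ↥C0) = matB bit (gens.getD k []))
    (h : stepsOK bit gens els = true) (v0 : ι → ZMod 2) (zp : ℕ) (hv0 : v0 = vecB bit zp)
    (units : List (List ℕ))
    (hu : ∀ j : ι, (∀ k ∈ units.getD (bit j) [], k < els.length) ∧
      ((units.getD (bit j) []).map fun k => Matrix.mulVec (matB bit (els.getD k ([], 0, 0)).1) (vecB bit zp)).sum = eu j)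
    (S : AddSubgroup (ι → ZMod 2)) (h0 : v0 ∈ S)
    (hS : ∀ c : ↥D.C, ∀ v ∈ S, Matrix.mulVec (D.sx.conjMat (c : ↥C0)) v ∈ S) : S = ⊤ := by
  rw [eq_top_iff]
  intro v _
  rw [← Finset.univ_sum_single v]
  refine sum_mem fun j _ => ?_
  rcases two_cases (v j) with e | e <;> rw [e]
  · rw [Pi.single_zero]; exact zero_mem _
  · show eu j ∈ S
    rw [← (hu j).2]
    refine list_sum_mem fun x hx => ?_
    obtain ⟨k, hk, rfl⟩ := List.mem_map.1 hx
    obtain ⟨c, hc⟩ := D.steps_mem bit gens els hg h k ((hu j).1 k hk)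
    rw [← hc, ← hv0]
    exact hS c v0 h0

end Cfsg.Agent.Spor.Co0Sec
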