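/-
The two minus-type orthogonal groups over two elements in dimensions six and four.
-/
import Cfsg.Agent.S0303
import Cfsg.Agent.S0283
import Cfsg.Agent.Lib.Classical.OrthPOmega
import Cfsg.Agent.Lib.Classical.OrthSymmetric
import Mathlib.GroupTheory.SpecificGroups.Alternating.Simple
import Mathlib.FieldTheory.Finite.GaloisField

set_option autoImplicit false
set_option maxRecDepth 100000

namespace Cfsg.Agent.Spor.Co0Sec

open Cfsg Cfsg.Agent.Classical

theorem anis : ∀ z₁ z₂ : ZMod 2, z₁ ^ 2 + 1 * z₁ * z₂ + 1 * z₂ ^ 2 = 0 → z₁ = 0 ∧ z₂ = 0 := by decide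

theorem card_iso6 : Nat.card ↥(isometryGroup (ZMod 2) (quadFormMinus 2 (ZMod 2) 1 1)) = 2 * 25920 := by
  rw [OCount.card_GO_minus 2 1 1 anis, ZMod.card]
  decide

theorem index_om6 : (Omega (ZMod 2) (quadFormMinus 2 (ZMod 2) 1 1)).index = 2 := by
  rw [← OOmega.coe_minus 2 1 1]
  exact OOmega.index_omega_two (OOmega.formOf_pnd (OOmega.pnd_plane anis)) (by simp) (Or.inr (by simp))

theorem card_om6 : Nat.card ↥(Omega (ZMod 2) (quadFormMinus 2 (ZMod 2) 1 1)) = 25920 := by
  have h := OOmega.card_omega (quadFormMinus 2 (ZMod 2) 1 1) 2 index_om6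
  rw [card_iso6] at h
  omega

theorem card_iso4 : Nat.card ↥(isometryGroup (ZMod 2) (quadFormMinus 1 (ZMod 2) 1 1)) = 2 * 60 := by
  rw [OCount.card_GO_minus 1 1 1 anis, ZMod.card]
  decide

theorem simple_om6 : IsSimpleGroup ↥(Omega (ZMod 2) (quadFormMinus 2 (ZMod 2) 1 1)) := by
  classical
  haveI : Fact (Nat.Prime 2) := ⟨Nat.prime_two⟩
  haveI : Fintype (GaloisField 2 2) := Fintype.ofFinite _
  have hK : Fintype.card (GaloisField 2 2) = 2 ^ 2 := by
    rw [← Nat.card_eq_fintype_card]; exact GaloisField.card 2 2 two_ne_zero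
  obtain ⟨e⟩ := Cfsg.Agent.S0303.result (F := ZMod 2) (K := GaloisField 2 2) (q := 2) (ZMod.card 2) hK 1 1 anis
  haveI := Cfsg.Agent.S0283.result (F := GaloisField 2 2) (q := 2) hK 4 (by norm_num) (by omega)
  haveI : Nontrivial (POmega (ZMod 2) (quadFormMinus 2 (ZMod 2) 1 1)) := e.toEquiv.nontrivial
  haveI hP : IsSimpleGroup (POmega (ZMod 2) (quadFormMinus 2 (ZMod 2) 1 1)) :=
    IsSimpleGroup.isSimpleGroup_of_surjective e.symm.toMonoidHom e.symm.surjective
  have hc : Nat.card (POmega (ZMod 2) (quadFormMinus 2 (ZMod 2) 1 1)) = 25920 := by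
    have h := OOmega.card_POmega_minus (F := ZMod 2) (m := 3) le_rfl 1 1 anis
    rw [ZMod.card, show Nat.gcd 4 (2 ^ 3 + 1) = 1 from rfl, one_mul, show (3 - 1 : ℕ) = 2 from rfl,
      Finset.prod_range_succ, Finset.prod_range_succ, Finset.prod_range_zero] at h
    rw [h]; norm_num
  haveI : Nontrivial ↥(Omega (ZMod 2) (quadFormMinus 2 (ZMod 2) 1 1)) := by
    rw [← Finite.one_lt_card_iff_nontrivial, card_om6]; norm_num
  have hz : Subgroup.center ↥(Omega (ZMod 2) (quadFormMinus 2 (ZMod 2) 1 1)) = ⊥ := by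
    refine Subgroup.eq_bot_of_card_eq _ ?_
    have h := Subgroup.card_eq_card_quotient_mul_card_subgroup
      (Subgroup.center ↥(Omega (ZMod 2) (quadFormMinus 2 (ZMod 2) 1 1)))
    rw [card_om6] at h
    change 25920 = Nat.card (POmega (ZMod 2) (quadFormMinus 2 (ZMod 2) 1 1)) * _ at h
    rw [hc] at h
    omega
  have e' : POmega (ZMod 2) (quadFormMinus 2 (ZMod 2) 1 1) ≃* ↥(Omega (ZMod 2) (quadFormMinus 2 (ZMod 2) 1 1)) :=
    (QuotientGroup.quotientMulEquivOfEq hz).trans QuotientGroup.quotientBot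
  exact IsSimpleGroup.isSimpleGroup_of_surjective e'.toMonoidHom e'.surjective

theorem om4 : Nat.card ↥(Omega (ZMod 2) (quadFormMinus 1 (ZMod 2) 1 1)) = 60 ∧
    IsSimpleGroup ↥(Omega (ZMod 2) (quadFormMinus 1 (ZMod 2) 1 1)) := by
  obtain ⟨f⟩ := OSymm.equiv_five
  have h1 : (commutator ↥(isometryGroup (ZMod 2) (quadFormMinus 1 (ZMod 2) 1 1))).map f.toMonoidHom =
      alternatingGroup (Fin 5) := by
    rw [← alternatingGroup.commutator_perm_eq (by simp), commutator_def, commutator_def, Subgroup.map_commutator,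
      Subgroup.map_top_of_surjective f.toMonoidHom f.surjective]
  have e : ↥(Omega (ZMod 2) (quadFormMinus 1 (ZMod 2) 1 1)) ≃* ↥(alternatingGroup (Fin 5)) :=
    ((commutator _).equivMapOfInjective f.toMonoidHom f.injective).trans (MulEquiv.subgroupCongr h1)
  refine ⟨?_, ?_⟩
  · rw [Nat.card_congr e.toEquiv, Nat.card_eq_fintype_card]
    decide +kernel
  · haveI := e.toEquiv.nontrivial
    exact IsSimpleGroup.isSimpleGroup_of_surjective e.symm.toMonoidHom e.symm.surjective

end Cfsg.Agent.Spor.Co0Sec
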