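/-
The section at the element of order five.
-/
import Cfsg.Agent.Lib.Spor.Co0Sec.Inst
import Cfsg.Agent.Lib.Spor.Co0Sec.Omega
import Cfsg.Agent.Lib.Spor.Co0Sec.DataFive

set_option autoImplicit false
set_option maxRecDepth 100000

namespace Cfsg.Agent.Spor.Co0Sec.Five

open Cfsg Cfsg.Agent.Spor Cfsg.Agent.Spor.Co1Invol Cfsg.Agent.Spor.Co0Sec

/-- the index type -/
abbrev I4 : Type := (Fin 1 ⊕ Fin 1) ⊕ Fin 2

/-- the form -/
abbrev Qm : (I4 → ZMod 2) → ZMod 2 := quadFormMinus 1 (ZMod 2) 1 1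

theorem bit_lt : ∀ i : I4, bitM 1 i < 4 := by decide

/-- the basis matrices -/
abbrev mq (i : I4) : IMat := matP (PQ.getD (bitM 1 i) ([], 0))

/-- the images -/
abbrev mi (k : Fin 2) (j : I4) : IMat := (MI.getD k.1 []).getD (bitM 1 j) []

theorem chk_A : chk MA = true := by decide +kernel
theorem chk_Q : PQ.all chkP = true ∧ PQ.length = 4 := by decide +kernel
theorem chk_R : PR.all chkP = true ∧ PR.length = 16 := by decide +kernel
theorem chk_G0 : chk (MG.getD 0 []) = true := by decide +kernel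
theorem chk_G1 : chk (MG.getD 1 []) = true := by decide +kernel
theorem chk_F : matOK MF = true := by decide +kernel
theorem chk_Z : chkP PZ = true ∧ MG.length = 2 := by decide +kernel

/-- the element -/
noncomputable def aEl : ↥C0 := inC0 (el MA)

/-- the basis -/
noncomputable def qEl (i : I4) : ↥C0 :=
  inC0 (elMono (PQ.getD (bitM 1 i) ([], 0)).1 (PQ.getD (bitM 1 i) ([], 0)).2)

theorem elQ (i : I4) : El ((qEl i : ↥C0) : ↥Co0) (mq i) :=
  chkP_spec (List.all_eq_true.1 chk_Q.1 _ (getD_mem _ (chk_Q.2.symm ▸ bit_lt i) _))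

theorem order_check : prodEq MA MA MA2 idM = true ∧ prodEq MA4 MA idM idM = true ∧ prodEq MA2 MA2 MA4 idM = true ∧
    (∃ p r : GolayPt, ent MA p r ≠ ent idM p r) := by decide +kernel

theorem q_checks : ∀ i : I4, q0OK (mq i) = true ∧ prodEq (mq i) MA MA (mq i) = true ∧
    sqBit (mq i) (Qm (eu i)) = true := by decide +kernel

theorem comm_checks : ∀ i j : I4, commBit (mq i) (mq j) (polF Qm (eu i) (eu j)) = true := by decide +kernel

theorem r_checks : ∀ k : Fin 16, q0OK (matP (PR.getD k.1 ([], 0))) = true ∧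
    prodEq (matP (PR.getD k.1 ([], 0))) MA (MC.getD k.1 []) (matP (PR.getD k.1 ([], 0))) = true ∧
    ∀ j : Fin 16, j ≠ k → ∃ p r : GolayPt, ent (MC.getD k.1 []) p r ≠ ent (MC.getD j.1 []) p r := by decide +kernel

theorem dual_check : ∀ i j : I4, polF Qm (eu i) (eu (dualM 1 j)) = if i = j then 1 else 0 := by decide +kernel

theorem cols_check : colsOK MA cols = true := by decide +kernel

theorem tab_check : ∀ c, c < 256 → Matrix.mulVec (matB bit8 cols) (vecB bit8 c) = vecB bit8 (tab.getD c 0) := by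
  decide +kernel

theorem tab_lt : ∀ c, c < 256 → tab.getD c 0 < 256 := by decide +kernel

theorem base8_lt : ∀ b ∈ base8, b < 256 := by decide +kernel

theorem span8 : ∀ j : Ix, (∀ i ∈ units8.getD (bit8 j) [], i < (levels tab 4 [] base8).2.length) ∧
    ((units8.getD (bit8 j) []).map fun i => (levels tab 4 [] base8).2.getD i 0).foldr (· ^^^ ·) 0 = 2 ^ bit8 j := by
  decide +kernel

theorem prod8 : ((levels tab 4 [] base8).1.map fun l => l.2.length).prod = 5 * 60 := by decide +kernel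

/-- the data -/
noncomputable def dat : Dat I4 where
  p := 5
  hp := Nat.prime_five
  hp2 := by norm_num
  a := aEl
  a_pow := by
    have hA := chk_spec chk_A
    have hA2 := El.of_prod hA hA order_check.1
    have hA4 := El.of_prod hA2 hA2 order_check.2.2.1
    have e2 := hA4.prod hA el_one el_one order_check.2.1
    apply Subtype.ext
    rw [SubgroupClass.coe_pow, pow_succ, pow_succ, pow_succ, pow_two, mul_assoc (aEl : ↥Co0) _ (aEl : ↥Co0)]
    simp only [← mul_assoc] at e2 ⊢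
    exact e2.trans (one_mul 1)
  a_ne := fun e => by
    obtain ⟨p, r, h⟩ := order_check.2.2.2
    exact El.ne_of_ent (chk_spec chk_A) el_one h (congrArg Subtype.val e)
  δ := dualM 1
  Qf := Qm
  pol_dual := dual_check
  pol_add := pol_add_minus 1
  Qf_zero := Qf_zero_minus 1
  q := qEl
  q_mem i := (elQ i).mem_Q0 (q_checks i).1
  q_a i := C0_prod (elQ i) (chk_spec chk_A) (chk_spec chk_A) (elQ i) (q_checks i).2.1
  q_sq i := sq_zp ((elQ i).mem_Q0 (q_checks i).1) (elQ i) (q_checks i).2.2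
  q_comm i j := comm_zp ((elQ i).mem_Q0 (q_checks i).1) ((elQ j).mem_Q0 (q_checks j).1) (elQ i) (elQ j)
    (comm_checks i j)
  n := 16
  hn := by simp
  r k := inC0 (elMono (PR.getD k.1 ([], 0)).1 (PR.getD k.1 ([], 0)).2)
  r_mem k := (chkP_spec (List.all_eq_true.1 chk_R.1 _ (getD_mem _ (chk_R.2.symm ▸ k.2) _))).mem_Q0 (r_checks k).1
  r_inj j k e := by
    by_contra hjk
    have hR : ∀ i : Fin 16, El (((inC0 (elMono (PR.getD i.1 ([], 0)).1 (PR.getD i.1 ([], 0)).2) * aEl *
        (inC0 (elMono (PR.getD i.1 ([], 0)).1 (PR.getD i.1 ([], 0)).2))⁻¹ : ↥C0)) : ↥Co0) (MC.getD i.1 []) :=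
      fun i => (chkP_spec (List.all_eq_true.1 chk_R.1 _ (getD_mem _ (chk_R.2.symm ▸ i.2) _))).conj
        (chk_spec chk_A) (r_checks i).2.1
    obtain ⟨p, r, h⟩ := (r_checks k).2.2 j hjk
    exact El.ne_of_ent (hR k) (hR j) h (congrArg Subtype.val e.symm)
  R := 60
  hup := centralizer_bound (chk_spec chk_A) cols_check tab_check tab_lt base8_lt units8 span8 prod8

theorem img_checks : ∀ k : Fin 2, ∀ j : I4,
    prodEq (MG.getD k.1 []) (mq j) (mi k j) (MG.getD k.1 []) = true ∧
    ∀ i : I4, commBit (mi k j) (mq (dualM 1 i)) (matF (bitM 1) (gcols.getD k.1 []) i j) = true := by decide +kernel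

theorem gen_cent : ∀ k : Fin 2, prodEq (MG.getD k.1 []) MA MA (MG.getD k.1 []) = true := by decide +kernel

theorem gens_ok : ∀ k, k < gcols.length →
    ∃ c : ↥dat.C, dat.sx.conjMat (c : ↥C0) = matB (bitM 1) (gcols.getD k []) := by
  intro k hk
  have hk2 : k < 2 := hk
  have hG : El ((inC0 (el (MG.getD k [])) : ↥C0) : ↥Co0) (MG.getD k []) := by
    refine chk_spec ?_
    interval_cases k
    exacts [chk_G0, chk_G1]
  have hC : inC0 (el (MG.getD k [])) ∈ dat.C :=
    dat.mem_C.2 (C0_prod hG (chk_spec chk_A) (chk_spec chk_A) hG (gen_cent ⟨k, hk2⟩)).symm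
  exact ⟨⟨_, hC⟩, dat.conjMat_check hG (mi ⟨k, hk2⟩) mq elQ (bitM 1) _ (fun j => (img_checks ⟨k, hk2⟩ j).1)
    fun i j => (img_checks ⟨k, hk2⟩ j).2 i⟩

theorem steps_check : stepsOK (bitM 1) gcols els = true := by decide +kernel

theorem low_check : lowOK (bitM 1) els lev [] = true ∧ (lev.map fun l => l.2.length).prod = 60 := by
  decide +kernel

theorem fuse_checks : prodEq MF MA MA MF = true ∧ prodEq MF epsM MZ1 MF = true ∧
    prodEq MZ1 epsM epsM MZ1 = true ∧ q0OK MZ1 = true ∧ prodEq MZ1 MA MA MZ1 = true ∧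
    prodEq epsM MF MF (matP PZ) = true ∧ q0OK (matP PZ) = true ∧ prodEq (matP PZ) MA MA (matP PZ) = true ∧
    prodEq MF (mq (.inr 0)) MU MF = true ∧ prodEq MU epsM epsM MU = true := by decide +kernel

/-- the fusing element -/
noncomputable def gEl : ↥Co0 := el MF

theorem elF : El gEl MF := el_spec chk_F

/-- the first image -/
noncomputable def z1El : ↥C0 := inC0 (gEl * eps * gEl⁻¹)

theorem elZ1 : El ((z1El : ↥C0) : ↥Co0) MZ1 := by
  rw [z1El, inC0_val (C0_of_check (elF.conj el_eps fuse_checks.2.1) fuse_checks.2.2.1)]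
  exact elF.conj el_eps fuse_checks.2.1

theorem z1_check : ∀ i : I4, commBit MZ1 (mq (dualM 1 i)) (vecB (bitM 1) (lev.getD 0 (0, [])).1 i) = true := by
  decide +kernel

theorem z1_coord' : dat.sx.coord z1El = vecB (bitM 1) (lev.getD 0 (0, [])).1 := funext fun i =>
  elZ1.b_val (elQ (dualM 1 i)) (z1_check i)

theorem z1_ne : vecB (bitM 1) (lev.getD 0 (0, [])).1 ≠ 0 := by decide +kernel

theorem units_check : ∀ j : I4, (∀ k ∈ unitsV.getD (bitM 1 j) [], k < els.length) ∧
    ((unitsV.getD (bitM 1 j) []).map fun k =>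
      Matrix.mulVec (matB (bitM 1) (els.getD k ([], 0, 0)).1) (vecB (bitM 1) (lev.getD 0 (0, [])).1)).sum = eu j := by
  decide +kernel

/-- the element outside -/
noncomputable def uEl : ↥C0 := inC0 (gEl * (qEl (.inr 0) : ↥Co0) * gEl⁻¹)

theorem elU : El ((uEl : ↥C0) : ↥Co0) MU := by
  have h := elF.conj (elQ (.inr 0)) fuse_checks.2.2.2.2.2.2.2.2.1
  rw [uEl, inC0_val (C0_of_check h fuse_checks.2.2.2.2.2.2.2.2.2)]
  exact h

theorem u_checks : ∀ j : I4, prodEq MU (mq j) (MUI.getD (bitM 1 j) []) MU = true ∧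
    ∀ i : I4, commBit (MUI.getD (bitM 1 j) []) (mq (dualM 1 i)) (matF (bitM 1) ucols i j) = true := by
  decide +kernel

theorem ucols_ne : ∃ i j : I4, matF (bitM 1) ucols i j ≠ if i = j then 1 else 0 := by decide +kernel

/-- the section -/
noncomputable def sec : Sec I4 where
  toDat := dat
  hlow := by
    have h := dat.range_ge (bitM 1) gcols els gens_ok steps_check lev low_check.1
    rw [low_check.2] at h
    exact h
  hiso := card_iso4
  homega := om4.1
  hsimp := om4.2
  h3 := by show 3 ∣ 60; norm_num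
  g := gEl
  g_a := elF.prod (chk_spec chk_A) (chk_spec chk_A) elF fuse_checks.1
  z1 := z1El
  z1_mem := ⟨elZ1.mem_Q0 fuse_checks.2.2.2.1,
    dat.mem_C.2 (C0_prod elZ1 (chk_spec chk_A) (chk_spec chk_A) elZ1 fuse_checks.2.2.2.2.1).symm⟩
  z1_eq := elF.prod el_eps elZ1 elF fuse_checks.2.1
  z1_coord := z1_coord'.symm ▸ z1_ne
  z2 := inC0 (elMono PZ.1 PZ.2)
  z2_mem := ⟨(chkP_spec chk_Z.1).mem_Q0 fuse_checks.2.2.2.2.2.2.1,
    dat.mem_C.2 (C0_prod (chkP_spec chk_Z.1) (chk_spec chk_A) (chk_spec chk_A) (chkP_spec chk_Z.1)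
      fuse_checks.2.2.2.2.2.2.2.1).symm⟩
  z2_eq := el_eps.prod elF elF (chkP_spec chk_Z.1) fuse_checks.2.2.2.2.2.1
  hspan S h0 hS := dat.span_of_orbit (bitM 1) gcols els gens_ok steps_check _ _ z1_coord' unitsV units_check S h0 hS
  x0 := qEl (.inr 0)
  x0_mem := dat.sx.q_mem _
  u0 := uEl
  u0_eq := elF.prod (elQ (.inr 0)) elU elF fuse_checks.2.2.2.2.2.2.2.2.1
  u0_ne := fun e => by
    obtain ⟨i, j, h⟩ := ucols_ne
    rw [dat.conjMat_check elU (fun j => MUI.getD (bitM 1 j) []) mq elQ (bitM 1) ucols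
      (fun j => (u_checks j).1) fun i j => (u_checks j).2 i] at e
    have h2 := congrFun (congrFun e i) j
    rw [Matrix.one_apply] at h2
    exact h h2

end Cfsg.Agent.Spor.Co0Sec.Five
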